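import Cfsg.Agent.Lib.Char.TwoDegrees.Taketa

/-!
# Groups all of whose irreducible degrees lie in `{1, m, n}`: basic facts
-/

set_option autoImplicit false

open scoped commutatorElement

namespace CfsgLib.Char.ThreeDegrees

open CfsgLib.Char.TwoDegrees

universe u

variable {G : Type u} [Group G] [Finite G]

/-- All irreducible degrees are `1`, `m` or `n`. -/
def ThreeDeg (G : Type u) [Group G] (m n : ℕ) : Prop :=
  ∀ χ : G → ℂ, Cfsg.IsIrrCharacter G χ → χ 1 = 1 ∨ χ 1 = (m : ℂ) ∨ χ 1 = (n : ℂ)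

theorem ThreeDeg.cases_nat {m n c : ℕ} (h : ThreeDeg G m n) {χ : G → ℂ}
    (hχ : Cfsg.IsIrrCharacter G χ) (hc : χ 1 = (c : ℂ)) : c = 1 ∨ c = m ∨ c = n := by
  have := h χ hχ
  rw [hc] at this
  rcases this with h1 | h1 | h1
  · exact Or.inl (Nat.cast_eq_one.mp h1)
  · exact Or.inr (Or.inl (Nat.cast_injective h1))
  · exact Or.inr (Or.inr (Nat.cast_injective h1))

omit [Finite G] in
theorem ThreeDeg.symm {m n : ℕ} (h : ThreeDeg G m n) : ThreeDeg G n m := fun χ hχ => by
  rcases h χ hχ with h1 | h1 | h1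
  · exact Or.inl h1
  · exact Or.inr (Or.inr h1)
  · exact Or.inr (Or.inl h1)

omit [Finite G] in
theorem ThreeDeg.of_surjective {m n : ℕ} (h : ThreeDeg G m n) {Q : Type u} [Group Q] (f : G →* Q)
    (hf : Function.Surjective f) : ThreeDeg Q m n := fun χ hχ => by
  have := h _ (IsIrrCharacter.comp_surjective hχ f hf)
  rwa [Function.comp_apply, map_one] at this

/-- An irreducible character of a normal subgroup lies under one of the group. -/
theorem exists_over [Fintype G] (N : Subgroup G) [N.Normal] [Fintype N] {θ : N → ℂ}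
    (hθ : Cfsg.IsIrrCharacter N θ) :
    ∃ (χ : G → ℂ) (c d : ℕ), Cfsg.IsIrrCharacter G χ ∧
      Cfsg.classInner (fun x : N => χ x) θ ≠ 0 ∧ χ 1 = (c : ℂ) ∧ θ 1 = (d : ℂ) ∧ d ∣ c ∧
      c / d ∣ N.index := by
  have hθc := IsIrrCharacter.isCharacter hθ
  obtain ⟨χ, hχ, hne⟩ := IsCharacter.exists_constituent (IsCharacter.indFun N hθc) fun h0 => by
    have h1 := indFun_one N θ
    rw [h0, Pi.zero_apply] at h1
    exact mul_ne_zero (Nat.cast_ne_zero.mpr Subgroup.index_ne_zero_of_finite)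
      (IsIrrCharacter.apply_one_ne_zero hθ) h1.symm
  rw [classInner_indFun N θ (IsIrrCharacter.isClassFunction hχ),
    IsCharacter.classInner_comm hθc (IsCharacter.restrict (IsIrrCharacter.isCharacter hχ) N)] at hne
  obtain ⟨c, -, hc⟩ := IsIrrCharacter.apply_one_eq hχ
  obtain ⟨d, -, hd⟩ := IsIrrCharacter.apply_one_eq hθ
  exact ⟨χ, c, d, hχ, hne, hc, hd, Cfsg.Agent.S0887.result N χ hχ θ hθ hne c d hc hd⟩

/-- A degree of a normal subgroup of coprime index is the corresponding part of a degree of the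
group. -/
theorem degree_eq_gcd (N : Subgroup G) [N.Normal] (hcop : (Nat.card N).Coprime N.index)
    {θ : N → ℂ} (hθ : Cfsg.IsIrrCharacter N θ) :
    ∃ (χ : G → ℂ) (c : ℕ), Cfsg.IsIrrCharacter G χ ∧ χ 1 = (c : ℂ) ∧
      θ 1 = (Nat.gcd c (Nat.card N) : ℂ) := by
  classical
  cases nonempty_fintype G
  obtain ⟨χ, c, d, hχ, -, hc, hd, hdc, hdi⟩ := exists_over N hθ
  refine ⟨χ, c, hχ, hc, ?_⟩
  obtain ⟨e, he, hed⟩ := IsIrrCharacter.apply_one_dvd_card hθ
  obtain rfl : e = d := Nat.cast_injective (R := ℂ) (he.symm.trans hd)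
  rw [hd, Nat.cast_inj]
  obtain ⟨r, rfl⟩ := hdc
  have hd0 : 0 < e := Nat.pos_of_ne_zero fun h0 => IsIrrCharacter.apply_one_ne_zero hθ (by
    rw [hd, h0, Nat.cast_zero])
  rw [Nat.mul_div_cancel_left r hd0] at hdi
  obtain ⟨s, hs⟩ := hed
  have hrs : r.Coprime s := ((hcop.coprime_dvd_left (Dvd.intro_left e hs.symm)).coprime_dvd_right
    hdi).symm
  rw [hs, Nat.gcd_mul_left, hrs.gcd_eq_one, mul_one]

theorem ThreeDeg.of_normal {m n : ℕ} (h : ThreeDeg G m n) (N : Subgroup G) [N.Normal]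
    (hcop : (Nat.card N).Coprime N.index) :
    ThreeDeg N (Nat.gcd m (Nat.card N)) (Nat.gcd n (Nat.card N)) := by
  intro θ hθ
  obtain ⟨χ, c, hχ, hc, hθ1⟩ := degree_eq_gcd N hcop hθ
  rcases h.cases_nat hχ hc with rfl | rfl | rfl
  · exact Or.inl (by rw [hθ1, Nat.gcd_one_left, Nat.cast_one])
  · exact Or.inr (Or.inl hθ1)
  · exact Or.inr (Or.inr hθ1)

/-- Two degrees: the second derived subgroup is trivial. -/
theorem derived_two_of_twoDeg {m : ℕ} (h : TwoDeg G m) : derivedSeries G 2 = ⊥ := by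
  classical
  cases nonempty_fintype G
  suffices hc : ∀ a ∈ commutator G, ∀ b ∈ commutator G, a * b = b * a by
    rw [derivedSeries_succ, derivedSeries_one, eq_bot_iff, Subgroup.commutator_le]
    intro a ha b hb
    rw [Subgroup.mem_bot]
    exact commutatorElement_eq_one_iff_mul_comm.2 (hc a ha b hb)
  by_cases hm : (∃ χ : Cfsg.IrrCharacter G, (χ : G → ℂ) 1 = (m : ℂ)) ∧ m ≠ 1
  · obtain ⟨⟨χ, hχ⟩, hm1⟩ := hm
    refine commutator_comm (m := m) (fun ψ => ?_) ⟨χ, ?_⟩ hm1
    · rcases h ψ ψ.2 with h1 | h1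
      · exact Or.inl ((CfsgLib.DegreeTools.deg_eq_one_iff ψ).2 h1)
      · refine Or.inr (Nat.cast_injective (R := ℂ) ?_)
        rw [← h1]; exact CfsgLib.DegreeTools.deg_cast ψ
    · exact Nat.cast_injective (R := ℂ) (by rw [← hχ]; exact CfsgLib.DegreeTools.deg_cast χ)
  · intro a _ b _
    refine comm_iff_forall_linear.2 (fun χ => ?_) a b
    rcases h χ χ.2 with h1 | h1
    · exact h1
    · by_contra hne
      exact hm ⟨⟨χ, h1⟩, fun e => hne (by rw [h1, e, Nat.cast_one])⟩

omit [Finite G] in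
/-- The derived series of a quotient. -/
theorem derived_le_of_quotient (N : Subgroup G) [N.Normal] {k : ℕ}
    (h : derivedSeries (G ⧸ N) k = ⊥) : derivedSeries G k ≤ N := by
  have h1 := map_derivedSeries_eq (f := QuotientGroup.mk' N) (QuotientGroup.mk'_surjective N) k
  rw [h, Subgroup.map_eq_bot_iff, QuotientGroup.ker_mk'] at h1
  exact h1

omit [Finite G] in
/-- A perfect subgroup lies in every term of the derived series. -/
theorem perfect_le {D H : Subgroup G} (hD : ⁅D, D⁆ = D) (hDH : D ≤ H) (j : ℕ) :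
    D ≤ (derivedSeries H j).map H.subtype := by
  induction j with
  | zero => simpa [← MonoidHom.range_eq_map] using hDH
  | succ j ih =>
    rw [derivedSeries_succ, Subgroup.map_commutator]
    calc D = ⁅D, D⁆ := hD.symm
      _ ≤ _ := Subgroup.commutator_mono ih ih

omit [Finite G] in
theorem perfect_eq_bot {D H : Subgroup G} (hD : ⁅D, D⁆ = D) (hDH : D ≤ H) [hs : Group.IsSolvable H] :
    D = ⊥ := by
  obtain ⟨j, hj⟩ := hs.solvable
  have := perfect_le hD hDH j
  rw [hj, Subgroup.map_bot, le_bot_iff] at this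
  exact this

omit [Finite G] in
theorem commutator_commutator_bot (F : Subgroup G) (h : derivedSeries F 2 = ⊥) :
    ⁅⁅F, F⁆, ⁅F, F⁆⁆ = ⊥ := by
  rw [derivedSeries_succ, derivedSeries_one] at h
  have := congrArg (Subgroup.map F.subtype) h
  rwa [Subgroup.map_commutator, Subgroup.map_subtype_commutator, Subgroup.map_bot] at this

section Taketa

variable [Fintype G]

/-- A normal subgroup in the kernel of all characters of degree below the index of `B` lies in
`B`. -/
theorem le_of_index_bound {B S : Subgroup G}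
    (hS : ∀ φ : Cfsg.IrrCharacter G, ∀ d : ℕ, (φ : G → ℂ) 1 = (d : ℂ) → d < B.index →
      ∀ x ∈ S, (φ : G → ℂ) x = (φ : G → ℂ) 1) [S.Normal] : S ≤ B := by
  classical
  cases nonempty_fintype B
  set P := Cfsg.indFun B (fun _ => (1 : ℂ)) with hP
  have hPc : Cfsg.IsCharacter G P := IsCharacter.indFun B isCharacter_one
  obtain ⟨c, hc, hexp⟩ := IsCharacter.exists_multiplicity hPc
  have htriv : Cfsg.classInner P (fun _ => 1) = 1 := by
    rw [hP, classInner_indFun B (fun _ => 1) (fun _ _ => rfl)]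
    exact classInner_irr_self isIrrCharacter_one
  intro x hx
  have hx1 : P x = P 1 := by
    rw [hexp x, hexp 1]
    refine Finset.sum_congr rfl fun φ _ => ?_
    by_cases hz : c φ = 0
    · simp [hz]
    have hne : Cfsg.classInner P (φ : G → ℂ) ≠ 0 := by
      rw [hc]; exact Nat.cast_ne_zero.mpr hz
    congr 1
    obtain ⟨a, b, ha, hb, hab, heq⟩ := IsCharacter.constituent_degree_le hPc φ.2 hne
    rw [hP, indFun_one, mul_one, Nat.cast_inj] at hb
    rcases lt_or_eq_of_le hab with hlt | hab'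
    · exact hS φ a ha (by omega) x hx
    · have hPφ := heq hab'
      by_cases hm : (φ : G → ℂ) = fun _ => 1
      · rw [hm]
      · rw [hPφ, classInner_irr_ne φ.2 isIrrCharacter_one hm] at htriv
        exact absurd htriv zero_ne_one
  rw [hP, indFun_one, mul_one, indFun_def,
    inv_mul_eq_iff_eq_mul₀ (Nat.cast_ne_zero.mpr Nat.card_pos.ne')] at hx1
  by_contra hxH
  have hlt : (∑ y : G, Cfsg.extendByZero B (fun _ => (1 : ℂ)) (y⁻¹ * x * y)) =
      ((Finset.univ.filter fun y : G => y⁻¹ * x * y ∈ B).card : ℂ) := by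
    rw [← Finset.sum_boole]
    refine Finset.sum_congr rfl fun y _ => ?_
    split_ifs with hy
    · rw [extendByZero_apply_mem B _ hy]
    · rw [extendByZero_apply_notMem B _ hy]
  rw [hlt, ← Nat.cast_mul, Nat.cast_inj, mul_comm, B.index_mul_card] at hx1
  have huniv := (Finset.card_eq_iff_eq_univ _).mp (hx1.trans Nat.card_eq_fintype_card)
  have := (Finset.mem_filter.mp (huniv ▸ Finset.mem_univ (1 : G))).2
  exact hxH (by simpa using this)

omit [Finite G] in
/-- The commutator of a normal subgroup of `B` is in the kernel of characters induced from linear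
characters of `B`. -/
theorem commutator_le_ker_indFun {B S : Subgroup G} [S.Normal] (hSB : S ≤ B) (lam : B →* ℂˣ)
    {x : G} (hx : x ∈ ⁅S, S⁆) :
    Cfsg.indFun B (fun b => (lam b : ℂ)) x = Cfsg.indFun B (fun b => (lam b : ℂ)) 1 := by
  have hle : ⁅S, S⁆ ≤ lam.ker.map B.subtype := by
    rw [Subgroup.commutator_le]
    intro a ha b hb
    refine ⟨⁅(⟨a, hSB ha⟩ : B), ⟨b, hSB hb⟩⁆, ?_, ?_⟩
    · rw [SetLike.mem_coe, MonoidHom.mem_ker, map_commutatorElement,
        commutatorElement_eq_one_iff_mul_comm, mul_comm]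
    · rw [map_commutatorElement]; rfl
  rw [indFun_def, indFun_def]
  congr 1
  refine Finset.sum_congr rfl fun y _ => ?_
  obtain ⟨b, hb, hbx⟩ := hle (show y⁻¹ * x * y ∈ ⁅S, S⁆ by
    simpa using (inferInstance : (⁅S, S⁆).Normal).conj_mem x hx y⁻¹)
  rw [mul_one, inv_mul_cancel, ← hbx, B.subtype_apply, extendByZero_coe,
    MonoidHom.mem_ker.1 hb, extendByZero_apply_mem B _ B.one_mem]
  exact congrArg Units.val (map_one lam).symm

/-- Taketa for three degrees. -/
theorem derived_three_of_nilpotent [Group.IsNilpotent G] {m n : ℕ} (h : ThreeDeg G m n)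
    (hmn : m < n) : derivedSeries G 3 = ⊥ := by
  classical
  have hlin : ∀ φ : Cfsg.IrrCharacter G, (φ : G → ℂ) 1 = 1 →
      ∀ x ∈ derivedSeries G 1, (φ : G → ℂ) x = (φ : G → ℂ) 1 := by
    intro φ hφ x hx
    obtain ⟨f, hf⟩ := exists_hom_of_apply_one_eq_one (isCharacter_irr φ) hφ
    rw [derivedSeries_one] at hx
    rw [hf]
    simp [MonoidHom.mem_ker.mp (Abelianization.commutator_subset_ker f hx)]
  have hmono : ∀ φ : Cfsg.IrrCharacter G, ∀ d : ℕ, (φ : G → ℂ) 1 = (d : ℂ) → ∀ k : ℕ,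
      (∀ ψ : Cfsg.IrrCharacter G, ∀ e : ℕ, (ψ : G → ℂ) 1 = (e : ℂ) → e < d →
        ∀ x ∈ derivedSeries G k, (ψ : G → ℂ) x = (ψ : G → ℂ) 1) →
      ∀ x ∈ derivedSeries G (k + 1), (φ : G → ℂ) x = (φ : G → ℂ) 1 := by
    intro φ d hd k hk x hx
    obtain ⟨H, lam, hlam⟩ := exists_monomial φ.2
    have hidx : H.index = d := by
      rw [hlam, indFun_one, map_one, Units.val_one, mul_one, Nat.cast_inj] at hd
      exact hd
    haveI : (derivedSeries G k).Normal := derivedSeries_normal G k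
    rw [derivedSeries_succ] at hx
    rw [hlam]
    exact commutator_le_ker_indFun
      (le_of_index_bound (S := derivedSeries G k) fun ψ e he hlt => hk ψ e he (hidx ▸ hlt)) lam hx
  have h2 : ∀ φ : Cfsg.IrrCharacter G, ∀ d : ℕ, (φ : G → ℂ) 1 = (d : ℂ) → d < n →
      ∀ x ∈ derivedSeries G 2, (φ : G → ℂ) x = (φ : G → ℂ) 1 := by
    intro φ d hd hlt x hx
    have hanti := derivedSeries_antitone G (show 1 ≤ 2 by omega) hx
    rcases h.cases_nat φ.2 hd with rfl | rfl | rfl
    · exact hlin φ (by rw [hd, Nat.cast_one]) x hanti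
    · refine hmono φ _ hd 1 (fun ψ e he hlt' y hy => ?_) x hx
      rcases h.cases_nat ψ.2 he with rfl | rfl | rfl
      · exact hlin ψ (by rw [he, Nat.cast_one]) y hy
      · omega
      · omega
    · omega
  rw [eq_bot_iff]
  intro x hx
  rw [Subgroup.mem_bot]
  refine eq_one_of_forall_irr fun φ => ?_
  obtain ⟨d, -, hd⟩ := IsIrrCharacter.apply_one_eq φ.2
  by_cases hdn : d < n
  · exact h2 φ d hd hdn x (derivedSeries_antitone G (show 2 ≤ 3 by omega) hx)
  rcases h.cases_nat φ.2 hd with rfl | rfl | rfl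
  · exact hlin φ (by rw [hd, Nat.cast_one]) x
      (derivedSeries_antitone G (show 1 ≤ 3 by omega) hx)
  · omega
  · exact hmono φ _ hd 2 (fun ψ e he hlt => h2 ψ e he hlt) x hx

end Taketa

end CfsgLib.Char.ThreeDegrees
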