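import Cfsg.Agent.Lib.Char.ThreeDegrees.Orbits
import Cfsg.Agent.Lib.Solvable.Cores
import Cfsg.Agent.Lib.Components.SFT.Criterion
import Cfsg.Agent.S4456
import Cfsg.Agent.S4461

/-!
# Three degrees: the solvable case
-/

set_option autoImplicit false

open scoped commutatorElement

namespace CfsgLib.Char.ThreeDegrees

open CfsgLib.Char.TwoDegrees CfsgLib.Solvable

universe u

/-- A nilpotent group with trivial `O_p` has order prime to `p`. -/
theorem not_dvd_card_of_nilpotent {Q : Type*} [Group Q] [Finite Q] [Group.IsNilpotent Q] {p : ℕ}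
    [Fact p.Prime] (h : Cfsg.pCore p Q = ⊥) : ¬ p ∣ Nat.card Q := by
  intro hd
  obtain ⟨P⟩ : Nonempty (Sylow p Q) := inferInstance
  haveI : (P : Subgroup Q).Normal := inferInstance
  have h1 := Cores.le_pCore (p := p) (N := (P : Subgroup Q)) P.isPGroup'
  rw [h, le_bot_iff] at h1
  exact P.ne_bot_of_dvd_card hd h1

/-- A group with abelian central quotient is nilpotent. -/
theorem isNilpotent_of_commutator_center {Q : Type*} [Group Q]
    (h : ∀ a b : Q, a * b * a⁻¹ * b⁻¹ ∈ Subgroup.center Q) : Group.IsNilpotent Q := by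
  have hc : ∀ a b : Q ⧸ Subgroup.center Q, a * b = b * a := by
    intro a b
    obtain ⟨a, rfl⟩ := QuotientGroup.mk_surjective a
    obtain ⟨b, rfl⟩ := QuotientGroup.mk_surjective b
    rw [← QuotientGroup.mk_mul, ← QuotientGroup.mk_mul, QuotientGroup.eq]
    simpa [mul_assoc] using h b⁻¹ a⁻¹
  refine Group.of_quotient_center_nilpotent ?_
  letI : CommGroup (Q ⧸ Subgroup.center Q) :=
    { (inferInstance : Group (Q ⧸ Subgroup.center Q)) with mul_comm := hc }
  infer_instance

variable {G : Type u} [Group G] [Fintype G]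

theorem solvable_case [Group.IsSolvable G] {m n : ℕ} (h : ThreeDeg G m n) (hm : 1 < m)
    (hmn : m < n) (hne : derivedSeries G 3 ≠ ⊥)
    (hmin : ∀ N : Subgroup G, N.Normal → N ≠ ⊥ → derivedSeries G 3 ≤ N) : False := by
  classical
  set D := derivedSeries G 3 with hDdef
  haveI : Nontrivial G := by
    by_contra hn
    rw [not_nontrivial_iff_subsingleton] at hn
    exact hne (Subsingleton.elim _ _)
  obtain ⟨p, hpF⟩ : ∃ p : Nat.Primes, Cfsg.pCore (p : ℕ) G ≠ ⊥ := by
    by_contra! hall
    refine Cores.fittingSubgroup_ne_bot (G := G) ?_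
    rw [Cores.fittingSubgroup_eq_iSup_pCore, iSup_eq_bot]
    exact hall
  obtain ⟨p, hp⟩ := p
  haveI : Fact p.Prime := ⟨hp⟩
  set F := Cfsg.pCore p G with hF
  have hDF : D ≤ F := hmin _ inferInstance hpF
  have hFp : IsPGroup p F := Cores.isPGroup_pCore p
  -- a normal `p'`-subgroup is trivial
  have hp' : ∀ N : Subgroup G, N.Normal → (Nat.card N).Coprime p → N = ⊥ := by
    intro N hN hc
    by_contra hNb
    refine hne (Subgroup.card_eq_one.1 ?_)
    obtain ⟨k, hk⟩ := IsPGroup.iff_card.1 hFp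
    exact Nat.eq_one_of_dvd_coprimes (hc.pow_right k) (Subgroup.card_dvd_of_le (hmin N hN hNb))
      (hk ▸ Subgroup.card_dvd_of_le hDF)
  have hFit : Cfsg.fittingSubgroup G = F :=
    Cores.fittingSubgroup_eq_pCore p (hp' _ inferInstance (Cores.coprime_card_pPrimeCore p))
  -- the degrees of `G / F` are `1` and `m`
  have h2 : TwoDeg (G ⧸ F) m := by
    intro χ' hχ'
    rcases (h.of_surjective _ (QuotientGroup.mk'_surjective F)) χ' hχ' with h1 | h1 | h1
    · exact Or.inl h1
    · exact Or.inr h1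
    exfalso
    set χ : G → ℂ := χ' ∘ QuotientGroup.mk' F with hχdef
    have hχ : Cfsg.IsIrrCharacter G χ :=
      IsIrrCharacter.comp_surjective hχ' _ (QuotientGroup.mk'_surjective F)
    have hχ1 : χ 1 = (n : ℂ) := by rw [hχdef, Function.comp_apply, map_one, h1]
    have hc := IsIrrCharacter.isCharacter hχ
    haveI := charKer_normal hc
    set K := charKer hc with hK
    have hFK : F ≤ K := fun x hx => (mem_charKer hc).2 (by
      show χ' (QuotientGroup.mk' F x) = χ' (QuotientGroup.mk' F 1)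
      rw [QuotientGroup.mk'_apply, (QuotientGroup.eq_one_iff x).2 hx, map_one])
    have hKtop : K ≠ ⊤ := fun e => by
      have h0 := CfsgLib.DegreeTools.sum_eq_zero ⟨χ, hχ⟩ fun e1 => by
        have h2' : χ 1 = 1 := congrArg (fun z : Cfsg.IrrCharacter G => (z : G → ℂ) 1) e1
        rw [hχ1, Nat.cast_eq_one] at h2'
        omega
      have hall : ∀ g : G, χ g = (n : ℂ) := fun g => by
        rw [← hχ1]; exact (mem_charKer hc).1 ((le_of_eq e.symm : ⊤ ≤ K) (Subgroup.mem_top g))
      simp only [hall, Finset.sum_const, nsmul_eq_mul, mul_eq_zero, Nat.cast_eq_zero] at h0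
      rcases h0 with h0 | h0
      · exact Finset.card_ne_zero_of_mem (Finset.mem_univ (1 : G)) h0
      · omega
    obtain ⟨φ, hφ, -⟩ := Cfsg.Agent.S4461.result ⟨χ, hχ⟩ K (fun x => mem_charKer hc) (by
      by_cases hle : K ≤ Cfsg.fittingSubgroup G
      · exact Or.inr ⟨le_antisymm hle (hFit ▸ hFK), inferInstance, hKtop⟩
      · exact Or.inl hle)
    have h4 : Cfsg.charDegree (φ : G → ℂ) ≤ n := by
      rcases h.cases_nat φ.2 (CfsgLib.DegreeTools.deg_cast φ).symm with h5 | h5 | h5 <;> omega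
    rw [show Cfsg.charDegree ((⟨χ, hχ⟩ : Cfsg.IrrCharacter G) : G → ℂ) = n from
      Nat.cast_injective (R := ℂ) (by
        show (Cfsg.charDegree χ : ℂ) = _
        rw [CfsgLib.DegreeTools.charDegree_cast hc, hχ1])] at hφ
    omega
  have hG2F : derivedSeries G 2 ≤ F := derived_le_of_quotient F (derived_two_of_twoDeg h2)
  -- so `F` has a nonlinear character
  obtain ⟨θ, t, hθ, ht, hpt⟩ : ∃ (θ : F → ℂ) (t : ℕ), Cfsg.IsIrrCharacter F θ ∧ θ 1 = (t : ℂ) ∧
      p ∣ t := by
    by_contra hno
    refine hne ?_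
    have hcomm : ∀ a b : F, a * b = b * a := by
      refine comm_iff_forall_linear.2 fun θ => ?_
      obtain ⟨t, ht, htd⟩ := IsIrrCharacter.apply_one_dvd_card θ.2
      obtain ⟨k, hk⟩ := IsPGroup.iff_card.1 hFp
      rw [hk] at htd
      obtain ⟨j, -, hj⟩ := (Nat.dvd_prime_pow hp).1 htd
      by_cases hj0 : j = 0
      · rw [ht, hj, hj0, pow_zero, Nat.cast_one]
      · exact absurd ⟨_, t, θ.2, ht, hj ▸ dvd_pow_self p hj0⟩ hno
    rw [hDdef, derivedSeries_succ, eq_bot_iff, Subgroup.commutator_le]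
    intro a ha b hb
    rw [Subgroup.mem_bot, commutatorElement_eq_one_iff_mul_comm]
    exact congrArg Subtype.val (hcomm ⟨a, hG2F ha⟩ ⟨b, hG2F hb⟩)
  -- `p` does not divide both degrees
  have hboth : ¬ (p ∣ m ∧ p ∣ n) := by
    rintro ⟨hpm, hpn⟩
    obtain ⟨N, hN, hNc, k, hk⟩ := Cfsg.Agent.S4456.result p hp fun χ h1 => by
      rcases h.cases_nat χ.2 (CfsgLib.DegreeTools.deg_cast χ).symm with h2' | h2' | h2'
      · exact absurd h2' h1
      · rw [h2']; exact hpm
      · rw [h2']; exact hpn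
    rw [hp' N hN hNc, Subgroup.index_bot] at hk
    haveI : Group.IsNilpotent G := (IsPGroup.of_card (p := p) (n := k) hk).isNilpotent
    exact hne (derived_three_of_nilpotent h hmn)
  by_cases hidx : p ∣ F.index
  swap
  · -- `F` is a Sylow subgroup
    obtain ⟨k, hk⟩ := IsPGroup.iff_card.1 hFp
    have hcop : (Nat.card F).Coprime F.index :=
      hk ▸ (hp.coprime_iff_not_dvd.2 hidx).pow_left k
    have hgcd : ∀ c : ℕ, ¬ p ∣ c → Nat.gcd c (Nat.card F) = 1 := fun c hc =>
      hk ▸ ((hp.coprime_iff_not_dvd.2 hc).symm.pow_right k)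
    obtain ⟨e0, e1, hE, hF2⟩ : ∃ e0 e1 : ℕ,
        (∀ c : ℕ, c = 1 ∨ c = m ∨ c = n → ¬ p ∣ c → c = 1 ∨ c = e0) ∧ TwoDeg F e1 := by
      by_cases hpm : p ∣ m
      · refine ⟨n, Nat.gcd m (Nat.card F), fun c hc hpc => ?_, fun φ hφ => ?_⟩
        · rcases hc with rfl | rfl | rfl
          · exact Or.inl rfl
          · exact absurd hpm hpc
          · exact Or.inr rfl
        · rcases h.of_normal F hcop φ hφ with h1 | h1 | h1
          · exact Or.inl h1
          · exact Or.inr h1
          · exact Or.inl (by rw [h1, hgcd n fun hh => hboth ⟨hpm, hh⟩, Nat.cast_one])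
      · refine ⟨m, Nat.gcd n (Nat.card F), fun c hc hpc => ?_, fun φ hφ => ?_⟩
        · rcases hc with rfl | rfl | rfl
          · exact Or.inl rfl
          · exact Or.inr rfl
          · -- then `F` would be abelian
            exfalso
            obtain ⟨χ, c', d, hχ, -, hc', hd, hdc, -⟩ := exists_over F hθ
            obtain rfl : d = t := Nat.cast_injective (R := ℂ) (hd.symm.trans ht)
            rcases h.cases_nat hχ hc' with rfl | rfl | rfl
            · exact hp.not_dvd_one (hpt.trans hdc)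
            · exact hpm (hpt.trans hdc)
            · exact hpc (hpt.trans hdc)
        · rcases h.of_normal F hcop φ hφ with h1 | h1 | h1
          · exact Or.inl h1
          · exact Or.inl (by rw [h1, hgcd m hpm, Nat.cast_one])
          · exact Or.inr h1
    haveI : (⁅F, F⁆).Normal := inferInstance
    have hQ : TwoDeg (G ⧸ ⁅F, F⁆) e0 := by
      intro χ' hχ'
      have hA : ∀ a ∈ F.map (QuotientGroup.mk' ⁅F, F⁆), ∀ b ∈ F.map (QuotientGroup.mk' ⁅F, F⁆),
          a * b = b * a := by
        rintro _ ⟨a, ha, rfl⟩ _ ⟨b, hb, rfl⟩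
        rw [← commutatorElement_eq_one_iff_mul_comm, ← map_commutatorElement,
          QuotientGroup.mk'_apply, QuotientGroup.eq_one_iff]
        exact Subgroup.commutator_mem_commutator ha hb
      haveI : (F.map (QuotientGroup.mk' ⁅F, F⁆)).Normal :=
        Subgroup.Normal.map inferInstance _ (QuotientGroup.mk'_surjective _)
      obtain ⟨c, hc, hcd⟩ := exists_degree_dvd_index hA hχ'
      rw [Subgroup.index_map_eq _ (QuotientGroup.mk'_surjective _)
        (by rw [QuotientGroup.ker_mk']; exact Subgroup.commutator_le_self F)] at hcd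
      rcases hE c ((h.of_surjective _ (QuotientGroup.mk'_surjective _)).cases_nat hχ' hc)
        (fun hh => hidx (hh.trans hcd)) with h1 | h1
      · exact Or.inl (by rw [hc, h1, Nat.cast_one])
      · exact Or.inr (by rw [hc, h1])
    refine hne (le_bot_iff.1 ?_)
    rw [← commutator_commutator_bot F (derived_two_of_twoDeg hF2), hDdef, derivedSeries_succ]
    exact Subgroup.commutator_mono (derived_le_of_quotient _ (derived_two_of_twoDeg hQ))
      (derived_le_of_quotient _ (derived_two_of_twoDeg hQ))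
  -- `p` divides the order of `G / F`
  have hQcore : Cfsg.pCore p (G ⧸ F) = ⊥ :=
    CfsgLib.Components.SFT.pCore_quotient_eq_bot p G
  have hQp : p ∣ Nat.card (G ⧸ F) := by rwa [← Subgroup.index_eq_card]
  have hnil : ¬ Group.IsNilpotent (G ⧸ F) := fun hn =>
    haveI := hn
    not_dvd_card_of_nilpotent hQcore hQp
  haveI : Fintype (G ⧸ F) := Fintype.ofFinite _
  have hQdeg : ∀ χ : Cfsg.IrrCharacter (G ⧸ F), Cfsg.charDegree (χ : G ⧸ F → ℂ) = 1 ∨
      Cfsg.charDegree (χ : G ⧸ F → ℂ) = m := fun χ => by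
    rcases h2 χ χ.2 with h1 | h1
    · exact Or.inl ((CfsgLib.DegreeTools.deg_eq_one_iff χ).2 h1)
    · exact Or.inr (Nat.cast_injective (R := ℂ) ((CfsgLib.DegreeTools.deg_cast χ).trans h1))
  have hQm : ∃ χ : Cfsg.IrrCharacter (G ⧸ F), Cfsg.charDegree (χ : G ⧸ F → ℂ) = m := by
    by_contra hno
    refine hnil ?_
    have hc : ∀ a b : G ⧸ F, a * b = b * a := comm_iff_forall_linear.2 fun χ =>
      (CfsgLib.DegreeTools.deg_eq_one_iff χ).1 ((hQdeg χ).resolve_right fun e => hno ⟨χ, e⟩)
    exact isNilpotent_of_commutator_center fun a b => by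
      rw [hc a b, mul_inv_cancel_right, mul_inv_cancel]
      exact one_mem _
  rcases TwoDegrees.main hQdeg hQm (by omega) with
    ⟨A, hAn, hAc, hAi⟩ | ⟨q, e, hq, -, P, A, hPn, hAn, hPp, hA, hi, hs⟩
  swap
  · haveI : Fact q.Prime := ⟨hq⟩
    haveI := hPn
    haveI := hAn
    haveI : Group.IsNilpotent ((G ⧸ F) ⧸ Subgroup.center (G ⧸ F)) :=
      IsPGroup.isNilpotent (isPGroup_quotient_center hPp hA hi hs)
    exact hnil (Group.of_quotient_center_nilpotent inferInstance)
  haveI := hAn
  -- `A` has order prime to `p`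
  have hAp : ¬ p ∣ Nat.card A := by
    haveI : Group.IsNilpotent A := by
      refine isNilpotent_of_commutator_center fun a b => ?_
      rw [show a * b = b * a from Subtype.ext (hAc a a.2 b b.2), mul_inv_cancel_right,
        mul_inv_cancel]
      exact one_mem _
    refine not_dvd_card_of_nilpotent ?_
    have h1 := Cores.map_pCore_le p A
    rw [hQcore, le_bot_iff, Subgroup.map_eq_bot_iff_of_injective _ A.subtype_injective] at h1
    exact h1
  have hpm : p ∣ m := by
    have h1 := hQp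
    rw [← A.card_mul_index, hAi] at h1
    exact (hp.dvd_mul.1 h1).resolve_left hAp
  have hpn : ¬ p ∣ n := fun hh => hboth ⟨hpm, hh⟩
  -- `G / U` is abelian
  haveI : Fintype ((G ⧸ F) ⧸ A) := Fintype.ofFinite _
  have hQA : ∀ a b : (G ⧸ F) ⧸ A, a * b = b * a := by
    refine comm_iff_forall_linear.2 fun χ => ?_
    rcases (h2.of_surjective _ (QuotientGroup.mk'_surjective A)) χ χ.2 with h1 | h1
    · exact h1
    exfalso
    have h3 := CfsgLib.DegreeTools.sum_deg_sq (G := (G ⧸ F) ⧸ A)
    have h4 : m ^ 2 ≤ m := by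
      have h5 := Finset.single_le_sum (f := fun ψ : Cfsg.IrrCharacter ((G ⧸ F) ⧸ A) =>
        Cfsg.charDegree (ψ : (G ⧸ F) ⧸ A → ℂ) ^ 2) (fun _ _ => Nat.zero_le _) (Finset.mem_univ χ)
      rw [h3, ← Subgroup.index_eq_card, hAi,
        show Cfsg.charDegree (χ : (G ⧸ F) ⧸ A → ℂ) = m from
          Nat.cast_injective (R := ℂ) ((CfsgLib.DegreeTools.deg_cast χ).trans h1)] at h5
      exact h5
    nlinarith
  have hQAmem : ∀ a b : G ⧸ F, a * b * a⁻¹ * b⁻¹ ∈ A := fun a b => by
    rw [← QuotientGroup.eq_one_iff, QuotientGroup.mk_mul, QuotientGroup.mk_mul,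
      QuotientGroup.mk_mul, hQA a b, QuotientGroup.mk_inv, QuotientGroup.mk_inv,
      mul_inv_cancel_right, mul_inv_cancel]
  set U : Subgroup G := A.comap (QuotientGroup.mk' F) with hU
  haveI : U.Normal := hAn.comap _
  have hFU : F ≤ U := fun x hx => by
    rw [hU, Subgroup.mem_comap, QuotientGroup.mk'_apply, (QuotientGroup.eq_one_iff x).2 hx]
    exact one_mem _
  have hUm : U.index = m := by
    rw [hU, Subgroup.index_comap_of_surjective _ (QuotientGroup.mk'_surjective F), hAi]
  refine no_moved_section hp h hpm hpn F hFU h2 hUm ?_ ?_ ?_ ?_ hθ ht hpt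
  · intro a b
    rw [hU, Subgroup.mem_comap, map_mul, map_mul, map_mul, map_inv, map_inv]
    exact hQAmem _ _
  · intro a ha b hb
    rw [← QuotientGroup.eq_one_iff, QuotientGroup.mk_mul, QuotientGroup.mk_mul,
      QuotientGroup.mk_mul, QuotientGroup.mk_inv, QuotientGroup.mk_inv,
      show (a : G ⧸ F) * b = b * a from hAc _ ha _ hb, mul_inv_cancel_right, mul_inv_cancel]
  · have h1 := Subgroup.relIndex_mul_index hFU
    rw [hUm, Subgroup.index_eq_card (H := F), ← A.card_mul_index, hAi] at h1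
    have h3 : F.relIndex U = Nat.card A := mul_right_cancel₀ (by omega) h1
    show ¬ p ∣ F.relIndex U
    rw [h3]
    exact hAp
  · intro hc
    refine hnil (isNilpotent_of_commutator_center fun a b => Subgroup.mem_center_iff.2 fun g => ?_)
    obtain ⟨u, hu⟩ := QuotientGroup.mk_surjective (a * b * a⁻¹ * b⁻¹)
    obtain ⟨g, rfl⟩ := QuotientGroup.mk_surjective g
    have huU : u ∈ U := by
      rw [hU, Subgroup.mem_comap, QuotientGroup.mk'_apply, hu]
      exact hQAmem a b
    have h1 := (QuotientGroup.eq_one_iff _).2 (hc u huU g)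
    rw [QuotientGroup.mk_mul, QuotientGroup.mk_mul, QuotientGroup.mk_mul, QuotientGroup.mk_inv,
      QuotientGroup.mk_inv, hu] at h1
    rw [mul_inv_eq_one] at h1
    exact mul_inv_eq_iff_eq_mul.1 h1

end CfsgLib.Char.ThreeDegrees
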