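import Cfsg.Agent.Lib.Char.ThreeDegrees.NonSolvable
import Cfsg.Agent.Lib.Char.ThreeDegrees.Solvable

/-!
# Isaacs, Theorem 12.15: three degrees force derived length at most three
-/

set_option autoImplicit false

open scoped commutatorElement

namespace CfsgLib.Char.ThreeDegrees

open CfsgLib.Char.TwoDegrees

universe u

theorem derived_three_aux : ∀ (N : ℕ) (G : Type u) [Group G] [Finite G], Nat.card G = N →
    ∀ m n : ℕ, ThreeDeg G m n → derivedSeries G 3 = ⊥ := by
  intro N
  induction N using Nat.strong_induction_on with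
  | _ N IH =>
    intro G _ _ hN m n h
    classical
    cases nonempty_fintype G
    by_cases h2 : ∃ e, TwoDeg G e
    · obtain ⟨e, he⟩ := h2
      exact le_bot_iff.1 ((derivedSeries_antitone G (show 2 ≤ 3 by omega)).trans
        (derived_two_of_twoDeg he).le)
    -- normalize
    suffices key : ∀ m n : ℕ, ThreeDeg G m n → 1 < m → m < n → derivedSeries G 3 = ⊥ by
      have hm1 : m ≠ 1 := fun e => h2 ⟨n, fun χ hχ => by
        rcases h χ hχ with h1 | h1 | h1
        · exact Or.inl h1
        · exact Or.inl (by rw [h1, e, Nat.cast_one])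
        · exact Or.inr h1⟩
      have hn1 : n ≠ 1 := fun e => h2 ⟨m, fun χ hχ => by
        rcases h χ hχ with h1 | h1 | h1
        · exact Or.inl h1
        · exact Or.inr h1
        · exact Or.inl (by rw [h1, e, Nat.cast_one])⟩
      have hm0 : m ≠ 0 := fun e => h2 ⟨n, fun χ hχ => by
        rcases h χ hχ with h1 | h1 | h1
        · exact Or.inl h1
        · exact absurd (h1.trans (by rw [e, Nat.cast_zero])) (IsIrrCharacter.apply_one_ne_zero hχ)
        · exact Or.inr h1⟩
      have hn0 : n ≠ 0 := fun e => h2 ⟨m, fun χ hχ => by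
        rcases h χ hχ with h1 | h1 | h1
        · exact Or.inl h1
        · exact Or.inr h1
        · exact absurd (h1.trans (by rw [e, Nat.cast_zero])) (IsIrrCharacter.apply_one_ne_zero hχ)⟩
      have hne : m ≠ n := fun e => h2 ⟨n, fun χ hχ => by
        rcases h χ hχ with h1 | h1 | h1
        · exact Or.inl h1
        · exact Or.inr (by rw [h1, e])
        · exact Or.inr h1⟩
      rcases lt_or_gt_of_ne hne with hlt | hlt
      · exact key m n h (by omega) hlt
      · exact key n m h.symm (by omega) hlt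
    intro m n h hm hmn
    by_contra hne
    set D := derivedSeries G 3 with hD
    haveI : D.Normal := derivedSeries_normal G 3
    have hmin : ∀ K : Subgroup G, K.Normal → K ≠ ⊥ → D ≤ K := by
      intro K hK hKb
      haveI := hK
      refine derived_le_of_quotient K (IH _ ?_ (G ⧸ K) rfl m n
        (h.of_surjective _ (QuotientGroup.mk'_surjective K)))
      rw [← hN, Subgroup.card_eq_card_quotient_mul_card_subgroup K]
      exact lt_mul_of_one_lt_right Nat.card_pos ((Subgroup.one_lt_card_iff_ne_bot K).2 hKb)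
    by_cases hab : ⁅D, D⁆ = ⊥
    · haveI : Group.IsSolvable G := ⟨⟨4, by rw [derivedSeries_succ]; exact hab⟩⟩
      exact solvable_case h hm hmn hne hmin
    · have hperf : ⁅D, D⁆ = D :=
        le_antisymm (Subgroup.commutator_le_self D) (hmin _ inferInstance hab)
      exact not_perfect D hne hmin hperf h hmn hm fun K hK a b hKab => by
        refine IH _ ?_ K rfl a b hKab
        rw [← hN]
        refine lt_of_le_of_ne (Nat.le_of_dvd Nat.card_pos K.card_subgroup_dvd_card) fun e => hK ?_
        exact Subgroup.eq_top_of_card_eq K e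

theorem derived_three {G : Type u} [Group G] [Finite G]
    (hcd : Nat.card {c : ℕ // ∃ χ : Cfsg.IrrCharacter G, Cfsg.charDegree (χ : G → ℂ) = c} = 3) :
    derivedSeries G 3 = ⊥ := by
  obtain ⟨x, y, z, -, -, -, hS⟩ := Set.ncard_eq_three.1 ((Nat.card_coe_set_eq
    {c : ℕ | ∃ χ : Cfsg.IrrCharacter G, Cfsg.charDegree (χ : G → ℂ) = c}).symm.trans hcd)
  have hone : (1 : ℕ) = x ∨ 1 = y ∨ 1 = z := by
    have h1 : (1 : ℕ) ∈ ({x, y, z} : Set ℕ) := hS ▸
      (⟨CfsgLib.DegreeTools.oneChar G, CfsgLib.DegreeTools.deg_oneChar⟩ :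
        ∃ χ : Cfsg.IrrCharacter G, Cfsg.charDegree (χ : G → ℂ) = 1)
    simpa using h1
  have hdeg : ∀ χ : G → ℂ, Cfsg.IsIrrCharacter G χ →
      χ 1 = (x : ℂ) ∨ χ 1 = (y : ℂ) ∨ χ 1 = (z : ℂ) := by
    intro χ hχ
    have h1 : Cfsg.charDegree χ ∈ ({x, y, z} : Set ℕ) := hS ▸
      (⟨⟨χ, hχ⟩, rfl⟩ : ∃ φ : Cfsg.IrrCharacter G, Cfsg.charDegree (φ : G → ℂ) = Cfsg.charDegree χ)
    rw [← CfsgLib.DegreeTools.charDegree_cast (IsIrrCharacter.isCharacter hχ)]
    simpa [Nat.cast_inj] using h1
  rcases hone with rfl | rfl | rfl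
  · exact derived_three_aux _ G rfl y z fun χ hχ => by simpa using hdeg χ hχ
  · exact derived_three_aux _ G rfl x z fun χ hχ => by
      have h1 := hdeg χ hχ
      rw [Nat.cast_one] at h1
      rcases h1 with h1 | h1 | h1
      · exact Or.inr (Or.inl h1)
      · exact Or.inl h1
      · exact Or.inr (Or.inr h1)
  · exact derived_three_aux _ G rfl x y fun χ hχ => by
      have h1 := hdeg χ hχ
      rw [Nat.cast_one] at h1
      rcases h1 with h1 | h1 | h1
      · exact Or.inr (Or.inl h1)
      · exact Or.inr (Or.inr h1)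
      · exact Or.inl h1

end CfsgLib.Char.ThreeDegrees
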