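import Cfsg.Agent.Lib.Char.ThreeDegrees.Basic
import Cfsg.Agent.Lib.Char.CliffordAbelian
import Cfsg.Agent.Lib.Solvable.Cores
import Cfsg.Agent.S4456
import Cfsg.Agent.S4461

/-!
# Three degrees: the smallest normal subgroup is not perfect
-/

set_option autoImplicit false

open scoped commutatorElement ComplexConjugate

namespace CfsgLib.Char.ThreeDegrees

universe u

variable {G : Type u} [Group G] [Fintype G]

/-- The product of two functions paired with a third. -/
theorem classInner_mul_left (χ ψ φ : G → ℂ) :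
    Cfsg.classInner (χ * ψ) φ = Cfsg.classInner ψ ((fun g => conj (χ g)) * φ) := by
  simp only [Cfsg.classInner, Pi.mul_apply, map_mul, Complex.conj_conj]
  congr 1
  exact Finset.sum_congr rfl fun g _ => by ring

variable (D : Subgroup G) [D.Normal]

/-- A character with the trivial character in its restriction has `D` in its kernel. -/
theorem le_ker_of_sum_ne_zero [Fintype D] {χ : G → ℂ} (hχ : Cfsg.IsIrrCharacter G χ)
    (h : Cfsg.classInner (fun x : D => χ x) (fun _ => 1) ≠ 0) : ∀ x ∈ D, χ x = χ 1 := by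
  classical
  intro x hx
  have h1 := restrict_eq_smul_orbit hχ isIrrCharacter_one h
  have hset : {ψ : D → ℂ | ∃ g : G, ψ = conjG (fun _ => (1 : ℂ)) g} = {fun _ => 1} := by
    ext ψ
    exact ⟨fun ⟨g, hg⟩ => hg, fun hg => ⟨1, hg⟩⟩
  rw [hset, finsum_mem_singleton] at h1
  have ex := congrFun h1 ⟨x, hx⟩
  have e1 := congrFun h1 1
  simp only [Pi.smul_apply, smul_eq_mul, mul_one, Subgroup.coe_one] at ex e1
  rw [ex, e1]

variable (hD : D ≠ ⊥) (hmin : ∀ N : Subgroup G, N.Normal → N ≠ ⊥ → D ≤ N) (hperf : ⁅D, D⁆ = D)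

include hmin in
omit [D.Normal] in
theorem faithful {χ : G → ℂ} (hχ : Cfsg.IsIrrCharacter G χ) (h : ¬ ∀ x ∈ D, χ x = χ 1) :
    ∀ g, χ g = χ 1 → g = 1 := by
  intro g hg
  by_contra hne
  have hc := IsIrrCharacter.isCharacter hχ
  exact h fun x hx => (mem_charKer hc).1 (hmin (charKer hc) (charKer_normal hc)
    (fun e => hne (by
      have h1 : g ∈ charKer hc := (mem_charKer hc).2 hg
      rwa [e, Subgroup.mem_bot] at h1)) hx)

include hperf in
omit [D.Normal] [Fintype G] in
theorem le_commutator : D ≤ commutator G :=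
  hperf ▸ Subgroup.commutator_mono le_top le_top

include hperf in
omit [D.Normal] in
/-- Linear characters are trivial on a perfect subgroup. -/
theorem linear_trivial {χ : G → ℂ} (hχ : Cfsg.IsIrrCharacter G χ) (h1 : χ 1 = 1) :
    ∀ x ∈ D, χ x = χ 1 := by
  intro x hx
  obtain ⟨f, hf⟩ := exists_hom_of_apply_one_eq_one (IsIrrCharacter.isCharacter hχ) h1
  rw [hf]
  simp [MonoidHom.mem_ker.mp (Abelianization.commutator_subset_ker f (le_commutator D hperf hx))]

include hperf in
/-- If `p` divides all degrees of characters nontrivial on `D` then `p` does not divide `|D|`. -/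
theorem prime_coprime_card {p : ℕ} (hp : p.Prime)
    (hall : ∀ χ : G → ℂ, Cfsg.IsIrrCharacter G χ → (¬ ∀ x ∈ D, χ x = χ 1) →
      ∃ c : ℕ, χ 1 = (c : ℂ) ∧ p ∣ c) : (Nat.card D).Coprime p := by
  classical
  haveI : Fact p.Prime := ⟨hp⟩
  obtain ⟨P⟩ : Nonempty (Sylow p G) := inferInstance
  set H : Subgroup G := D ⊔ (P : Subgroup G) with hH
  have hDH : D ≤ H := le_sup_left
  have hPH : (P : Subgroup G) ≤ H := le_sup_right
  have hidx : ¬ p ∣ H.index := fun hd =>
    P.not_dvd_index (hd.trans (Subgroup.index_dvd_of_le hPH))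
  haveI : (D.subgroupOf H).Normal := inferInstance
  have hq : IsPGroup p (H ⧸ D.subgroupOf H) := by
    refine IsPGroup.of_surjective P.isPGroup'
      ((QuotientGroup.mk' (D.subgroupOf H)).comp (Subgroup.inclusion hPH)) fun q => ?_
    obtain ⟨x, rfl⟩ := QuotientGroup.mk'_surjective _ q
    obtain ⟨d, hd, y, hy, hxy⟩ :=
      Subgroup.mem_sup_of_normal_left.1 (show (x : G) ∈ D ⊔ (P : Subgroup G) from x.2)
    refine ⟨⟨y, hy⟩, ?_⟩
    rw [MonoidHom.comp_apply, QuotientGroup.mk'_eq_mk']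
    set w : H := Subgroup.inclusion hPH ⟨y, hy⟩ with hw
    refine ⟨w⁻¹ * ⟨d, hDH hd⟩ * w, ?_, Subtype.ext ?_⟩
    · have := (inferInstance : (D.subgroupOf H).Normal).conj_mem (⟨d, hDH hd⟩ : H)
        (Subgroup.mem_subgroupOf.2 hd) w⁻¹
      rwa [inv_inv] at this
    · simp only [hw, Subgroup.coe_mul, Subgroup.coe_inv, Subgroup.coe_inclusion]
      rw [← mul_assoc, ← mul_assoc, mul_inv_cancel, one_mul, hxy]
  have hdeg : ∀ θ : Cfsg.IrrCharacter H, Cfsg.charDegree (θ : H → ℂ) ≠ 1 →
      p ∣ Cfsg.charDegree (θ : H → ℂ) := by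
    intro θ hθ1
    obtain ⟨d, -, hd⟩ := IsIrrCharacter.apply_one_eq θ.2
    have hdd : Cfsg.charDegree (θ : H → ℂ) = d :=
      Nat.cast_injective (R := ℂ) (by rw [← hd]; exact CfsgLib.DegreeTools.deg_cast θ)
    rw [hdd] at hθ1 ⊢
    by_cases hk : ∀ x : H, (x : G) ∈ D → (θ : H → ℂ) x = (θ : H → ℂ) 1
    · obtain ⟨ψ, hψ, he⟩ := IsIrrCharacter.exists_deflate θ.2 (D.subgroupOf H)
        fun x hx => hk x (Subgroup.mem_subgroupOf.1 hx)
      obtain ⟨e, he1, hed⟩ := IsIrrCharacter.apply_one_dvd_card hψ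
      obtain ⟨k, hk'⟩ := IsPGroup.iff_card.1 hq
      have : d = e := Nat.cast_injective (R := ℂ) (by
        rw [← hd, he, Function.comp_apply, map_one, he1])
      subst this
      rw [hk'] at hed
      obtain ⟨j, -, hj⟩ := (Nat.dvd_prime_pow hp).1 hed
      refine hj ▸ dvd_pow_self p fun h0 => hθ1 ?_
      rw [hj, h0, pow_zero]
    · have hθc := IsIrrCharacter.isCharacter θ.2
      set I := Cfsg.indFun H (θ : H → ℂ) with hI
      have hIc : Cfsg.IsCharacter G I := IsCharacter.indFun H hθc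
      obtain ⟨c, hc, hexp⟩ := IsCharacter.exists_multiplicity hIc
      choose e he he' using fun φ : Cfsg.IrrCharacter G => IsIrrCharacter.apply_one_eq φ.2
      have h1 : ((∑ φ, c φ * e φ : ℕ) : ℂ) = ((H.index * d : ℕ) : ℂ) := by
        rw [Nat.cast_mul H.index d, ← hd, ← indFun_one H (θ : H → ℂ), ← hI, hexp 1]
        push_cast
        exact Finset.sum_congr rfl fun φ _ => by rw [he']
      have h2 : p ∣ H.index * d := by
        rw [← Nat.cast_injective h1]
        refine Finset.dvd_sum fun φ _ => ?_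
        by_cases hz : c φ = 0
        · simp [hz]
        obtain ⟨a, ha, hpa⟩ := hall φ φ.2 fun hker => hk fun x hx => by
          refine IsCharacter.constituent_apply_eq_one
            (IsCharacter.restrict (isCharacter_irr φ) H) θ.2 ?_ (g := x) (hker x hx)
          rw [IsCharacter.classInner_comm (IsCharacter.restrict (isCharacter_irr φ) H) hθc,
            ← classInner_indFun H (θ : H → ℂ) (IsIrrCharacter.isClassFunction φ.2), ← hI, hc]
          exact Nat.cast_ne_zero.2 hz
        rw [show e φ = a from Nat.cast_injective (R := ℂ) ((he' φ).symm.trans ha)]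
        exact dvd_mul_of_dvd_right hpa _
      exact (hp.dvd_mul.1 h2).resolve_left hidx
  obtain ⟨N, hN, hNc, k, hk⟩ := Cfsg.Agent.S4456.result p hp hdeg
  haveI := hN
  have hNq : IsPGroup p (H ⧸ N) := IsPGroup.of_card (n := k) (by rw [← Subgroup.index_eq_card, hk])
  haveI : Group.IsNilpotent (H ⧸ N) := hNq.isNilpotent
  haveI : Group.IsSolvable (H ⧸ N) := inferInstance
  obtain ⟨j, hj⟩ := (inferInstance : Group.IsSolvable (H ⧸ N)).solvable
  have hle : D ≤ N.map H.subtype :=
    (perfect_le hperf hDH j).trans (Subgroup.map_mono (derived_le_of_quotient N hj))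
  refine hNc.coprime_dvd_left ?_
  rw [← Subgroup.card_map_of_injective H.subtype_injective]
  exact Subgroup.card_dvd_of_le hle

include hD hperf in
/-- The characters nontrivial on `D` do not all have one degree. -/
theorem not_all_degree {l : ℕ}
    (hall : ∀ χ : G → ℂ, Cfsg.IsIrrCharacter G χ → (¬ ∀ x ∈ D, χ x = χ 1) → χ 1 = (l : ℂ)) :
    False := by
  classical
  have hcop : ∀ p : ℕ, p.Prime → p ∣ l → (Nat.card D).Coprime p := fun p hp hpl =>
    prime_coprime_card D hperf hp fun χ hχ h => ⟨l, hall χ hχ h, hpl⟩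
  have hlin : ∀ θ : Cfsg.IrrCharacter D, (θ : D → ℂ) 1 = 1 := by
    intro θ
    obtain ⟨χ, c, d, hχ, hne, hc, hd, hdc, -⟩ := exists_over D θ.2
    by_cases hk : ∀ x ∈ D, χ x = χ 1
    · have hθker : ∀ x : D, (θ : D → ℂ) x = (θ : D → ℂ) 1 := fun x =>
        IsCharacter.constituent_apply_eq_one (IsCharacter.restrict (IsIrrCharacter.isCharacter hχ) D)
          θ.2 hne (g := x) (hk x x.2)
      obtain ⟨ψ, hψ, he⟩ := IsIrrCharacter.exists_deflate θ.2 (⊤ : Subgroup D) fun x _ => hθker x
      rw [he, Function.comp_apply, map_one]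
      refine apply_one_eq_one_of_comm (fun a b => ?_) hψ
      obtain ⟨a, rfl⟩ := QuotientGroup.mk_surjective a
      obtain ⟨b, rfl⟩ := QuotientGroup.mk_surjective b
      exact QuotientGroup.eq.2 (Subgroup.mem_top _)
    · obtain ⟨e, he, hed⟩ := IsIrrCharacter.apply_one_dvd_card θ.2
      obtain rfl : e = d := Nat.cast_injective (R := ℂ) (he.symm.trans hd)
      have hcl : c = l := Nat.cast_injective (R := ℂ) (hc.symm.trans (hall χ hχ hk))
      have : e = 1 := by
        refine Nat.eq_one_iff_not_exists_prime_dvd.2 fun p hp hpe => ?_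
        exact hp.coprime_iff_not_dvd.1 (hcop p hp (hcl ▸ hpe.trans hdc)).symm (hpe.trans hed)
      rw [hd, this, Nat.cast_one]
  have hcomm : ∀ a b : D, a * b = b * a := comm_iff_forall_linear.2 hlin
  refine hD ?_
  rw [← hperf, eq_bot_iff, Subgroup.commutator_le]
  intro a ha b hb
  rw [Subgroup.mem_bot, commutatorElement_eq_one_iff_mul_comm]
  exact congrArg Subtype.val (hcomm ⟨a, ha⟩ ⟨b, hb⟩)

include hD hperf hmin in
/-- A perfect `D` below every nontrivial normal subgroup is impossible for coprime `m < n`. -/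
theorem not_perfect_coprime {m n : ℕ} (h : ThreeDeg G m n) (hmn : m < n) (hm : 1 < m)
    (hcop : m.Coprime n) : False := by
  classical
  -- characters of both degrees are nontrivial on `D`
  have hnl : ∀ χ : G → ℂ, Cfsg.IsIrrCharacter G χ → (¬ ∀ x ∈ D, χ x = χ 1) →
      χ 1 = (m : ℂ) ∨ χ 1 = (n : ℂ) := fun χ hχ hk => by
    rcases h χ hχ with h1 | h1 | h1
    · exact absurd (linear_trivial D hperf hχ h1) hk
    · exact Or.inl h1
    · exact Or.inr h1
  obtain ⟨χ, hχ, hχk, hχm⟩ : ∃ χ : G → ℂ, Cfsg.IsIrrCharacter G χ ∧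
      (¬ ∀ x ∈ D, χ x = χ 1) ∧ χ 1 = (m : ℂ) := by
    by_contra hno
    refine not_all_degree D hD hperf (l := n) fun χ hχ hk => ?_
    exact (hnl χ hχ hk).resolve_left fun h1 => hno ⟨χ, hχ, hk, h1⟩
  obtain ⟨ψ₀, hψ₀, hψ₀n⟩ : ∃ ψ : G → ℂ, Cfsg.IsIrrCharacter G ψ ∧ ψ 1 = (n : ℂ) := by
    by_contra hno
    refine not_all_degree D hD hperf (l := m) fun χ hχ hk => ?_
    exact (hnl χ hχ hk).resolve_right fun h1 => hno ⟨χ, hχ, h1⟩
  have hχf := faithful D hmin hχ hχk
  -- the Fitting subgroup is trivial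
  have hF : Cfsg.fittingSubgroup G = ⊥ := by
    by_contra hne
    exact hD (perfect_eq_bot hperf (hmin _ inferInstance hne))
  -- all characters of degree `n` are faithful
  have hψf : ∀ ψ : G → ℂ, Cfsg.IsIrrCharacter G ψ → ψ 1 = (n : ℂ) → ∀ g, ψ g = ψ 1 → g = 1 := by
    intro ψ hψ hn g hg
    by_contra hne
    have hc := IsIrrCharacter.isCharacter hψ
    haveI := charKer_normal hc
    obtain ⟨φ, hφ, -⟩ := Cfsg.Agent.S4461.result ⟨ψ, hψ⟩ (charKer hc) (fun x => mem_charKer hc)
      (Or.inl fun hle => hne (by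
        have h1 : g ∈ charKer hc := (mem_charKer hc).2 hg
        have h2 := hle h1
        rwa [hF, Subgroup.mem_bot] at h2))
    have h3 : Cfsg.charDegree ψ = n :=
      Nat.cast_injective (R := ℂ) (by rw [CfsgLib.DegreeTools.charDegree_cast hc, hn])
    have h4 : Cfsg.charDegree (φ : G → ℂ) ≤ n := by
      rcases h.cases_nat φ.2 (CfsgLib.DegreeTools.deg_cast φ).symm with h5 | h5 | h5 <;> omega
    rw [show Cfsg.charDegree ((⟨ψ, hψ⟩ : Cfsg.IrrCharacter G) : G → ℂ) = n from h3] at hφ
    omega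
  -- products of `χ` with characters of degree `n`
  have hprod : ∀ ψ : G → ℂ, Cfsg.IsIrrCharacter G ψ → ψ 1 = (n : ℂ) →
      ∀ φ : Cfsg.IrrCharacter G, Cfsg.classInner (χ * ψ) φ ≠ 0 → (φ : G → ℂ) 1 = (n : ℂ) := by
    intro ψ hψ hψn
    have hP : Cfsg.IsCharacter G (χ * ψ) :=
      IsCharacter.mul (IsIrrCharacter.isCharacter hχ) (IsIrrCharacter.isCharacter hψ)
    obtain ⟨c, hc, hexp⟩ := IsCharacter.exists_multiplicity hP
    have hno1 : ∀ φ : Cfsg.IrrCharacter G, (φ : G → ℂ) 1 = 1 → c φ = 0 := by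
      intro φ hφ
      obtain ⟨f, hf⟩ := exists_hom_of_apply_one_eq_one (isCharacter_irr φ) hφ
      have h1 := hc φ
      rw [classInner_mul_left] at h1
      have hirr : Cfsg.IsIrrCharacter G ((fun g => conj (χ g)) * (φ : G → ℂ)) := by
        rw [hf]; exact IsIrrCharacter.mul_hom (IsIrrCharacter.conj' hχ) f
      rw [classInner_irr_ne hψ hirr fun e => ?_] at h1
      · exact_mod_cast h1.symm
      · have e1 := congrFun e 1
        rw [Pi.mul_apply, hφ, hχm, hψn, mul_one, Complex.conj_natCast, Nat.cast_inj] at e1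
        omega
    set S := (Finset.univ : Finset (Cfsg.IrrCharacter G)).filter
      fun φ : Cfsg.IrrCharacter G => (φ : G → ℂ) 1 = (m : ℂ) with hS
    set T := (Finset.univ : Finset (Cfsg.IrrCharacter G)).filter
      fun φ : Cfsg.IrrCharacter G => (φ : G → ℂ) 1 = (n : ℂ) with hT
    have hsum : m * n = m * (∑ φ ∈ S, c φ) + n * (∑ φ ∈ T, c φ) := by
      apply Nat.cast_injective (R := ℂ)
      push_cast
      rw [show (m : ℂ) * n = (χ * ψ) 1 by rw [Pi.mul_apply, hχm, hψn], hexp 1, Finset.mul_sum,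
        Finset.mul_sum, hS, hT, Finset.sum_filter, Finset.sum_filter, ← Finset.sum_add_distrib]
      refine Finset.sum_congr rfl fun φ _ => ?_
      rcases h φ φ.2 with h1 | h1 | h1
      · simp [hno1 φ h1]
      · rw [if_pos h1, if_neg (by rw [h1, Nat.cast_inj]; omega), h1]; ring
      · rw [if_neg (by rw [h1, Nat.cast_inj]; omega), if_pos h1, h1]; ring
    intro φ₀ hne
    rcases h φ₀ φ₀.2 with h1 | h1 | h1
    · exact absurd (by rw [hc, hno1 φ₀ h1, Nat.cast_zero]) hne
    swap
    · exact h1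
    exfalso
    have hne' : c φ₀ ≠ 0 := fun h0 => hne (by rw [hc, h0, Nat.cast_zero])
    set α := ∑ φ ∈ S, c φ with hα
    set β := ∑ φ ∈ T, c φ with hβ
    have hα0 : 0 < α := lt_of_lt_of_le (Nat.pos_of_ne_zero hne')
      (Finset.single_le_sum (fun φ _ => Nat.zero_le (c φ)) (by simp [hS, h1]))
    have hαn : n ∣ α := by
      refine Nat.Coprime.dvd_of_dvd_mul_left hcop.symm ?_
      exact (Nat.dvd_add_left (dvd_mul_right n β)).1 (hsum ▸ dvd_mul_left n m)
    have hαn' : α = n := by
      have h2 := Nat.le_of_dvd hα0 hαn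
      have h3 : m * α ≤ m * n := by rw [hsum]; exact Nat.le_add_right _ _
      exact le_antisymm (Nat.le_of_mul_le_mul_left h3 (by omega)) h2
    have hβ0 : β = 0 := by
      rw [hαn'] at hsum
      rcases Nat.mul_eq_zero.1 (show n * β = 0 by omega) with h2 | h2 <;> omega
    -- every constituent of degree `m` is `χ` times a linear character
    have hshape : ∀ φ : Cfsg.IrrCharacter G, c φ ≠ 0 → ∃ f : G →* ℂˣ,
        (φ : G → ℂ) = χ * fun g => (f g : ℂ) := by
      intro φ hφ0
      have hφm : (φ : G → ℂ) 1 = (m : ℂ) := by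
        rcases h φ φ.2 with h2 | h2 | h2
        · exact absurd (hno1 φ h2) hφ0
        · exact h2
        · exact absurd (Finset.sum_eq_zero_iff.1 hβ0 φ (by simp [hT, h2])) hφ0
      have hQ : Cfsg.IsCharacter G ((fun g => conj (χ g)) * (φ : G → ℂ)) :=
        IsCharacter.mul (IsCharacter.conj' (IsIrrCharacter.isCharacter hχ)) (isCharacter_irr φ)
      obtain ⟨d, hd, hdexp⟩ := IsCharacter.exists_multiplicity hQ
      by_contra hnof
      have hno1' : ∀ π : Cfsg.IrrCharacter G, (π : G → ℂ) 1 = 1 → d π = 0 := by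
        intro π hπ
        by_contra hd0
        obtain ⟨f, hf⟩ := exists_hom_of_apply_one_eq_one (isCharacter_irr π) hπ
        refine hnof ⟨f, ?_⟩
        have hirr := IsIrrCharacter.mul_hom hχ f
        by_contra hne2
        have h3 := hd π
        rw [classInner_mul_left, hf, show (fun g => conj (conj (χ g))) = χ from
          funext fun g => Complex.conj_conj _, classInner_irr_ne φ.2 hirr hne2] at h3
        exact hd0 (by exact_mod_cast h3.symm)
      have hψd : d ⟨ψ, hψ⟩ ≠ 0 := by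
        intro h0
        have h3 := hc φ
        rw [classInner_mul_left, IsCharacter.classInner_comm (IsIrrCharacter.isCharacter hψ) hQ,
          show ψ = ((⟨ψ, hψ⟩ : Cfsg.IrrCharacter G) : G → ℂ) from rfl, hd, h0] at h3
        exact hφ0 (Nat.cast_injective h3).symm
      have hsum2 : m * m = m * (∑ π ∈ S, d π) + n * (∑ π ∈ T, d π) := by
        apply Nat.cast_injective (R := ℂ)
        push_cast
        rw [show (m : ℂ) * m = ((fun g => conj (χ g)) * (φ : G → ℂ)) 1 by
            rw [Pi.mul_apply, hχm, hφm, Complex.conj_natCast], hdexp 1, Finset.mul_sum,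
          Finset.mul_sum, hS, hT, Finset.sum_filter, Finset.sum_filter, ← Finset.sum_add_distrib]
        refine Finset.sum_congr rfl fun π _ => ?_
        rcases h π π.2 with h2 | h2 | h2
        · simp [hno1' π h2]
        · rw [if_pos h2, if_neg (by rw [h2, Nat.cast_inj]; omega), h2]; ring
        · rw [if_neg (by rw [h2, Nat.cast_inj]; omega), if_pos h2, h2]; ring
      set δ := ∑ π ∈ T, d π with hδ
      have hδ0 : 0 < δ := lt_of_lt_of_le (Nat.pos_of_ne_zero hψd)
        (Finset.single_le_sum (fun π _ => Nat.zero_le (d π)) (by simp [hT, hψn]))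
      have hmd : m ∣ δ := Nat.Coprime.dvd_of_dvd_mul_left hcop
        ((Nat.dvd_add_right (dvd_mul_right m _)).1 (hsum2 ▸ dvd_mul_right m m))
      have h5 : n * m ≤ m * m :=
        (Nat.mul_le_mul_left n (Nat.le_of_dvd hδ0 hmd)).trans (hsum2 ▸ Nat.le_add_left _ _)
      have := Nat.le_of_mul_le_mul_right h5 (by omega)
      omega
    -- so `χ` vanishes on `D` away from the identity
    have hvan : ∀ x ∈ D, x ≠ 1 → χ x = 0 := by
      intro x hx hx1
      have h2 : ∀ φ : Cfsg.IrrCharacter G,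
          (c φ : ℂ) * (φ : G → ℂ) x = (c φ : ℂ) * χ x := by
        intro φ
        by_cases h0 : c φ = 0
        · simp [h0]
        obtain ⟨f, hf⟩ := hshape φ h0
        rw [hf, Pi.mul_apply]
        simp [MonoidHom.mem_ker.mp (Abelianization.commutator_subset_ker f
          (le_commutator D hperf hx))]
      have h3 : ∀ φ : Cfsg.IrrCharacter G,
          (c φ : ℂ) * (φ : G → ℂ) 1 = (c φ : ℂ) * χ 1 := by
        intro φ
        by_cases h0 : c φ = 0
        · simp [h0]
        obtain ⟨f, hf⟩ := hshape φ h0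
        rw [hf, Pi.mul_apply, map_one, Units.val_one, mul_one]
      have h4 := hexp x
      have h5 := hexp 1
      rw [Finset.sum_congr rfl fun φ _ => h2 φ, ← Finset.sum_mul, Pi.mul_apply] at h4
      rw [Finset.sum_congr rfl fun φ _ => h3 φ, ← Finset.sum_mul, Pi.mul_apply, mul_comm] at h5
      have h6 : (∑ φ : Cfsg.IrrCharacter G, (c φ : ℂ)) = ψ 1 :=
        (mul_right_cancel₀ (IsIrrCharacter.apply_one_ne_zero hχ) h5).symm
      rw [h6, mul_comm, ← sub_eq_zero, ← sub_mul] at h4
      rcases mul_eq_zero.1 h4 with h7 | h7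
      · exact absurd (hψf ψ hψ hψn x (sub_eq_zero.1 h7)) hx1
      · exact h7
    refine hχk (le_ker_of_sum_ne_zero D hχ ?_)
    rw [classInner_fun_one_right, Finset.sum_eq_single (1 : D)
      (fun x _ hx1 => hvan x x.2 fun e => hx1 (Subtype.ext e))
      (fun h0 => absurd (Finset.mem_univ _) h0)]
    exact mul_ne_zero (inv_ne_zero card_ne_zero) (IsIrrCharacter.apply_one_ne_zero hχ)
  -- moments
  have hmom : ∀ k : ℕ, ∀ ψ : G → ℂ, Cfsg.IsIrrCharacter G ψ → ψ 1 = (n : ℂ) →
      ∑ g, χ g ^ k * ψ g = 0 := by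
    intro k
    induction k with
    | zero =>
      intro ψ hψ hψn
      have h1 := CfsgLib.DegreeTools.sum_eq_zero ⟨ψ, hψ⟩ fun e => by
        have h2 : ψ 1 = 1 := congrArg (fun z : Cfsg.IrrCharacter G => (z : G → ℂ) 1) e
        rw [hψn, Nat.cast_eq_one] at h2
        omega
      simpa using h1
    | succ k ih =>
      intro ψ hψ hψn
      obtain ⟨c, hc, hexp⟩ := IsCharacter.exists_multiplicity
        (IsCharacter.mul (IsIrrCharacter.isCharacter hχ) (IsIrrCharacter.isCharacter hψ))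
      have e : ∀ g, χ g ^ (k + 1) * ψ g =
          ∑ φ : Cfsg.IrrCharacter G, (c φ : ℂ) * (χ g ^ k * (φ : G → ℂ) g) := fun g => by
        rw [pow_succ, mul_assoc, ← Pi.mul_apply χ ψ g, hexp g, Finset.mul_sum]
        exact Finset.sum_congr rfl fun φ _ => by ring
      rw [Finset.sum_congr rfl fun g _ => e g, Finset.sum_comm]
      refine Finset.sum_eq_zero fun φ _ => ?_
      rw [← Finset.mul_sum]
      by_cases h0 : c φ = 0
      · simp [h0]
      · rw [ih φ φ.2 (hprod ψ hψ hψn φ (by rw [hc]; exact Nat.cast_ne_zero.2 h0)), mul_zero]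
  set P : Polynomial ℂ := ∏ v ∈ ((Finset.univ : Finset G).erase 1).image χ,
    (Polynomial.X - Polynomial.C v) with hP
  have h1 : ∑ g, P.eval (χ g) * ψ₀ g = 0 := by
    simp only [Polynomial.eval_eq_sum_range, Finset.sum_mul]
    rw [Finset.sum_comm]
    refine Finset.sum_eq_zero fun i _ => ?_
    simp only [mul_assoc, ← Finset.mul_sum, hmom i ψ₀ hψ₀ hψ₀n, mul_zero]
  rw [Finset.sum_eq_single (1 : G) ?_ (fun h0 => absurd (Finset.mem_univ _) h0)] at h1
  · rcases mul_eq_zero.1 h1 with h2 | h2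
    · rw [hP, Polynomial.eval_prod, Finset.prod_eq_zero_iff] at h2
      obtain ⟨v, hv, hv'⟩ := h2
      obtain ⟨g, hg, rfl⟩ := Finset.mem_image.1 hv
      simp only [Polynomial.eval_sub, Polynomial.eval_X, Polynomial.eval_C, sub_eq_zero] at hv'
      exact (Finset.mem_erase.1 hg).1 (hχf g hv'.symm)
    · exact IsIrrCharacter.apply_one_ne_zero hψ₀ h2
  · intro g _ hg
    rw [hP, Polynomial.eval_prod, Finset.prod_eq_zero (Finset.mem_image_of_mem χ
      (Finset.mem_erase.2 ⟨hg, Finset.mem_univ g⟩)) (by simp), zero_mul]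

include hD hperf hmin in
/-- `D` is not perfect. -/
theorem not_perfect {m n : ℕ} (h : ThreeDeg G m n) (hmn : m < n) (hm : 1 < m)
    (ih : ∀ K : Subgroup G, K ≠ ⊤ → ∀ a b : ℕ, ThreeDeg K a b → derivedSeries K 3 = ⊥) :
    False := by
  classical
  by_cases hcop : m.Coprime n
  · exact not_perfect_coprime D hD hmin hperf h hmn hm hcop
  obtain ⟨p, hp, hpm, hpn⟩ := Nat.Prime.not_coprime_iff_dvd.1 hcop
  haveI : Fact p.Prime := ⟨hp⟩
  obtain ⟨N, hN, hNc, k, hk⟩ := Cfsg.Agent.S4456.result p hp fun χ h1 => by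
    rcases h.cases_nat χ.2 (CfsgLib.DegreeTools.deg_cast χ).symm with h2 | h2 | h2
    · exact absurd h2 h1
    · rw [h2]; exact hpm
    · rw [h2]; exact hpn
  haveI := hN
  by_cases hNb : N = ⊥
  · have hG : IsPGroup p G := IsPGroup.of_card (n := k) (by rw [← hk, hNb, Subgroup.index_bot])
    haveI : Group.IsNilpotent G := hG.isNilpotent
    exact hD (perfect_eq_bot hperf (H := (⊤ : Subgroup G)) le_top)
  by_cases hNt : N = ⊤
  · have hpc : (Nat.card G).Coprime p := by rwa [hNt, Subgroup.card_top] at hNc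
    refine hD (eq_bot_iff.2 fun x hx => Subgroup.mem_bot.2 (eq_one_of_forall_irr fun χ => ?_))
    refine linear_trivial D hperf χ.2 ?_ x hx
    obtain ⟨e, he, hed⟩ := IsIrrCharacter.apply_one_dvd_card χ.2
    rcases h χ χ.2 with h1 | h1 | h1
    · exact h1
    · rw [he, Nat.cast_inj] at h1
      exact absurd ((h1 ▸ hpm).trans hed) (hp.coprime_iff_not_dvd.1 hpc.symm)
    · rw [he, Nat.cast_inj] at h1
      exact absurd ((h1 ▸ hpn).trans hed) (hp.coprime_iff_not_dvd.1 hpc.symm)
  haveI : Group.IsSolvable N := ⟨⟨3, ih N hNt _ _ (h.of_normal N (hk ▸ hNc.pow_right k))⟩⟩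
  exact hD (perfect_eq_bot hperf (hmin N hN hNb))

end CfsgLib.Char.ThreeDegrees
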