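import Cfsg.Agent.Lib.Char.ThreeDegrees.Basic
import Cfsg.Agent.Lib.Char.CliffordAbelian
import Cfsg.Agent.Lib.CharDeep.DetExt
import Mathlib.GroupTheory.Perm.Cycle.Type

/-!
# Three degrees: linear characters of an abelian section moved by a top group
-/

set_option autoImplicit false

open scoped commutatorElement

namespace CfsgLib.Char.ThreeDegrees

open CfsgLib.Char.TwoDegrees

universe u

section Det

variable {U : Type*} [Group U] [Fintype U]

/-- An irreducible character fixed by multiplication with a linear character. -/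
theorem pow_degree_eq_one {ψ : U → ℂ} (hψ : Cfsg.IsIrrCharacter U ψ) (κ : U →* ℂˣ)
    (h : ∀ u, ψ u * (κ u : ℂ) = ψ u) {d : ℕ} (hd : ψ 1 = (d : ℂ)) : κ ^ d = 1 := by
  obtain ⟨N, ρ, -, rfl⟩ := hψ
  have hN : N = d := by
    rw [Representation.char_one, Module.finrank_fin_fun, Nat.cast_inj] at hd
    exact hd
  subst hN
  obtain ⟨e⟩ := nonempty_equiv_of_char_eq ρ (CfsgLib.CharDeep.DetExt.twistHom ρ κ) (funext fun u => by
    show _ = LinearMap.trace ℂ _ ((κ u : ℂ) • ρ u)
    rw [map_smul, smul_eq_mul, mul_comm]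
    exact (h u).symm)
  ext u
  rw [MonoidHom.pow_apply, MonoidHom.one_apply, Units.val_pow_eq_pow_val, Units.val_one]
  have h1 : LinearMap.det ((κ u : ℂ) • ρ u) = LinearMap.det (ρ u) := by
    rw [← LinearMap.det_conj (ρ u) e.toLinearEquiv]
    congr 1
    refine LinearMap.ext fun v => ?_
    have h2 := LinearMap.congr_fun (e.toIntertwiningMap.isIntertwining' u) (e.toLinearEquiv.symm v)
    simp only [LinearMap.coe_comp, LinearEquiv.coe_coe, Function.comp_apply] at h2 ⊢
    refine Eq.trans ?_ h2.symm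
    show (κ u : ℂ) • ρ u v =
      CfsgLib.CharDeep.DetExt.twistHom ρ κ u (e.toLinearEquiv (e.toLinearEquiv.symm v))
    rw [LinearEquiv.apply_symm_apply]
    rfl
  rw [LinearMap.det_smul, Module.finrank_fin_fun] at h1
  have hne : LinearMap.det (ρ u) ≠ 0 := by
    rw [← CfsgLib.CharDeep.DetExt.coe_detHom ρ u]
    exact Units.ne_zero _
  exact mul_right_cancel₀ hne (h1.trans (one_mul _).symm)

end Det

variable {G : Type u} [Group G] {U : Subgroup G} [hU : U.Normal]

/-- The conjugation action on linear characters of a normal subgroup. -/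
noncomputable def homTwist (g : G) : (U →* ℂˣ) →* (U →* ℂˣ) :=
  MonoidHom.mk' (fun l => l.comp (MulAut.conjNormal g).toMonoidHom) fun _ _ => rfl

theorem homTwist_apply (g : G) (l : U →* ℂˣ) (u : U) :
    homTwist g l u = l ⟨g * u * g⁻¹, hU.conj_mem u u.2 g⟩ := rfl

theorem homTwist_homTwist (a b : G) (l : U →* ℂˣ) :
    homTwist a (homTwist b l) = homTwist (b * a) l := by
  ext u
  simp only [homTwist_apply]
  congr 2
  exact Subtype.ext (by simp [mul_assoc])

theorem homTwist_of_mem {g : G} (hg : g ∈ U) (l : U →* ℂˣ) : homTwist g l = l := by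
  ext u
  rw [homTwist_apply,
    show (⟨g * u * g⁻¹, hU.conj_mem u u.2 g⟩ : U) = ⟨g, hg⟩ * u * ⟨g, hg⟩⁻¹ from Subtype.ext rfl,
    map_mul, map_mul, map_inv, mul_comm (l ⟨g, hg⟩), mul_inv_cancel_right]

theorem homTwist_one (l : U →* ℂˣ) : homTwist (1 : G) l = l := homTwist_of_mem U.one_mem l

theorem conjG_coe_hom (g : G) (l : U →* ℂˣ) :
    conjG (fun u : U => (l u : ℂ)) g = fun u : U => (homTwist g l u : ℂ) := rfl

/-- The configuration of Part C: impossible. -/
theorem no_moved_section [Fintype G] {m n p : ℕ} (hp : p.Prime) (h : ThreeDeg G m n)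
    (hpm : p ∣ m) (hpn : ¬ p ∣ n) (F : Subgroup G) [F.Normal] (hFU : F ≤ U)
    (h2 : TwoDeg (G ⧸ F) m) (hUm : U.index = m)
    (hGU : ∀ a b : G, a * b * a⁻¹ * b⁻¹ ∈ U)
    (hUF : ∀ a ∈ U, ∀ b ∈ U, a * b * a⁻¹ * b⁻¹ ∈ F)
    (hcop : ¬ p ∣ (F.subgroupOf U).index)
    (hmoved : ¬ ∀ u ∈ U, ∀ g : G, g * u * g⁻¹ * u⁻¹ ∈ F)
    {θ : F → ℂ} (hθ : Cfsg.IsIrrCharacter F θ) {t : ℕ} (ht : θ 1 = (t : ℂ)) (hpt : p ∣ t) :
    False := by
  classical
  haveI := Fintype.ofFinite U
  haveI : Finite (U →* ℂˣ) := Finite.of_equiv _ homEquivLinear.symm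
  haveI hF0 : (F.subgroupOf U).Normal := inferInstance
  set L : Subgroup (U →* ℂˣ) :=
    { carrier := {l | ∀ u : U, (u : G) ∈ F → l u = 1}
      one_mem' := fun u _ => rfl
      mul_mem' := fun {a b} ha hb u hu => by rw [MonoidHom.mul_apply, ha u hu, hb u hu, mul_one]
      inv_mem' := fun {a} ha u hu => by rw [MonoidHom.inv_apply, ha u hu, inv_one] } with hL
  have hLmem : ∀ l : U →* ℂˣ, l ∈ L ↔ ∀ u : U, (u : G) ∈ F → l u = 1 := fun l => Iff.rfl
  -- linear characters of `U / F` are fixed by all or only by `U`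
  have hdich : ∀ l ∈ L, ∀ g : G, g ∉ U → homTwist g l = l → ∀ y : G, homTwist y l = l := by
    intro l hl g hg hgl
    set f : U → ℂ := fun u => (l u : ℂ) with hf
    have hfi : Cfsg.IsIrrCharacter U f := isIrrCharacter_hom l
    set I := Cfsg.indFun U f with hI
    have hIc : Cfsg.IsCharacter G I := IsCharacter.indFun U (IsIrrCharacter.isCharacter hfi)
    have hI1 : I 1 = (m : ℂ) := by
      rw [hI, indFun_one, hf]
      simp only [map_one, Units.val_one, mul_one, hUm]
    have hIker : ∀ x ∈ F, I x = I 1 := by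
      intro x hx
      have e1 := indFun_apply_of_normal U f ⟨x, hFU hx⟩
      have e2 := indFun_apply_of_normal U f 1
      rw [hI]
      refine e1.trans (Eq.trans ?_ e2.symm)
      congr 1
      refine Finset.sum_congr rfl fun y _ => ?_
      simp only [hf]
      rw [hl _ ((inferInstance : F.Normal).conj_mem x hx y), hl _ (by simp [F.one_mem])]
    obtain ⟨φ, hφ, hne⟩ := IsCharacter.exists_constituent hIc fun h0 => by
      rw [h0, Pi.zero_apply] at hI1
      exact (Nat.pos_of_ne_zero fun e => Subgroup.index_ne_zero_of_finite (hUm.trans e)).ne'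
        (Nat.cast_eq_zero.1 hI1.symm)
    obtain ⟨φ', hφ', he⟩ := IsIrrCharacter.exists_deflate hφ F fun x hx =>
      IsCharacter.constituent_apply_eq_one hIc hφ hne (hIker x hx)
    have hφ1 : φ 1 = 1 ∨ φ 1 = (m : ℂ) := by
      have := h2 φ' hφ'
      rwa [he, Function.comp_apply, map_one]
    rcases hφ1 with h1 | h1
    · obtain ⟨a, ha⟩ := exists_hom_of_apply_one_eq_one (IsIrrCharacter.isCharacter hφ) h1
      rw [hI, classInner_indFun U f (IsIrrCharacter.isClassFunction hφ)] at hne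
      have hres : (fun u : U => φ u) = fun u : U => ((a.comp U.subtype) u : ℂ) := by
        rw [ha]; rfl
      rw [hres] at hne
      have heq : f = fun u : U => ((a.comp U.subtype) u : ℂ) := by
        by_contra hne'
        exact hne (classInner_irr_ne hfi (isIrrCharacter_hom _) hne')
      have hla : l = a.comp U.subtype := coe_hom_injective heq
      intro y
      rw [hla]
      ext u
      rw [homTwist_apply, MonoidHom.comp_apply, MonoidHom.comp_apply, U.subtype_apply,
        U.subtype_apply, map_mul, map_mul, map_inv, mul_comm (a y), mul_inv_cancel_right]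
    · exfalso
      obtain ⟨a, b, ha, hb, -, hEq⟩ := IsCharacter.constituent_degree_le hIc hφ hne
      rw [h1, Nat.cast_inj] at ha
      rw [hI1, Nat.cast_inj] at hb
      have hIφ := hEq (ha.symm.trans hb)
      have h3 := classInner_indFun_irr (G := G) hfi hfi
      rw [← hI, hIφ, classInner_irr_self hφ, eq_div_iff card_ne_zero, one_mul, Nat.cast_inj] at h3
      have hst : U = stab f :=
        Subgroup.eq_of_le_of_card_ge (le_stab (IsIrrCharacter.isClassFunction hfi)) h3.ge
      refine hg ?_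
      rw [hst, mem_stab, hf, conjG_coe_hom, hgl]
  -- an element of order `p` modulo `U`
  have hmk : Nat.card (G ⧸ U) = m := by rw [← Subgroup.index_eq_card, hUm]
  have helt : ∀ q : ℕ, q.Prime → q ∣ m → ∃ y : G, y ∉ U ∧ y ^ q ∈ U := by
    intro q hq hqm
    haveI := Fact.mk hq
    obtain ⟨a, ha⟩ := exists_prime_orderOf_dvd_card' (G := G ⧸ U) q (hmk ▸ hqm)
    obtain ⟨y, rfl⟩ := QuotientGroup.mk_surjective a
    refine ⟨y, fun hy => ?_, (QuotientGroup.eq_one_iff _).1 ?_⟩
    · rw [(QuotientGroup.eq_one_iff y).2 hy, orderOf_one] at ha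
      exact hq.ne_one ha.symm
    · rw [QuotientGroup.mk_pow, ← ha, pow_orderOf_eq_one]
  obtain ⟨y0, hy0, hy0p⟩ := helt p hp hpm
  -- the displacements by `y0`
  set δ : (U →* ℂˣ) →* (U →* ℂˣ) :=
    MonoidHom.mk' (fun l => homTwist y0 l * l⁻¹) (fun a b => by
      rw [map_mul]; exact shift_aux' (L := U →* ℂˣ) _ _ _ _) with hδ
  set L1 : Subgroup (U →* ℂˣ) := L.map δ with hL1
  have hLtw : ∀ l ∈ L, ∀ g : G, homTwist g l ∈ L := fun l hl g u hu =>
    hl _ ((inferInstance : F.Normal).conj_mem _ hu g)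
  have hL1L : L1 ≤ L := by
    rintro _ ⟨l, hl, rfl⟩
    exact L.mul_mem (hLtw l hl y0) (L.inv_mem hl)
  have hL1tw : ∀ μ ∈ L1, ∀ g : G, homTwist g μ ∈ L1 := by
    rintro _ ⟨l, hl, rfl⟩ g
    refine ⟨homTwist g l, hLtw l hl g, ?_⟩
    show homTwist y0 (homTwist g l) * (homTwist g l)⁻¹ = homTwist g (homTwist y0 l * l⁻¹)
    rw [show homTwist g (homTwist y0 l * l⁻¹) = homTwist g (homTwist y0 l) * (homTwist g l)⁻¹ from
      MonoidHom.ext fun u => rfl, homTwist_homTwist, homTwist_homTwist]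
    congr 1
    rw [show y0 * g = (y0 * g * y0⁻¹ * g⁻¹) * (g * y0) by group,
      ← homTwist_homTwist (g * y0) (y0 * g * y0⁻¹ * g⁻¹), homTwist_of_mem (hGU y0 g)]
  have hpow : ∀ l ∈ L, l ^ (F.subgroupOf U).index = 1 := by
    intro l hl
    ext u
    rw [MonoidHom.pow_apply, ← map_pow,
      hl _ (Subgroup.mem_subgroupOf.1 (Subgroup.pow_index_mem (F.subgroupOf U) u)),
      MonoidHom.one_apply]
  have hfree : ∀ μ ∈ L1, ∀ g : G, g ∉ U → homTwist g μ = μ → μ = 1 := by
    intro μ hμ g hg hgμ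
    have hμy := hdich μ (hL1L hμ) g hg hgμ y0
    obtain ⟨l, hl, hlμ⟩ := hμ
    have h1 : ∀ v : U, homTwist y0 l v = l v * μ v := fun v => by
      rw [← hlμ]
      show _ = l v * (homTwist y0 l v * (l v)⁻¹)
      rw [← mul_assoc, mul_comm (l v), mul_inv_cancel_right]
    have hk : ∀ (k : ℕ) (v : U), homTwist (y0 ^ k) l v = l v * μ v ^ k := by
      intro k
      induction k with
      | zero => intro v; rw [pow_zero, homTwist_one, pow_zero, mul_one]
      | succ k ih =>
        intro v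
        rw [pow_succ, ← homTwist_homTwist y0 (y0 ^ k), homTwist_apply y0, ih,
          ← homTwist_apply y0 l v, ← homTwist_apply y0 μ v, h1, hμy, mul_assoc, ← pow_succ']
    have hμL : μ ∈ L := hL1L (by rw [← hlμ]; exact ⟨l, hl, rfl⟩)
    refine eq_one_of_pow (L := U →* ℂˣ) (a := p) (b := (F.subgroupOf U).index) (hp.coprime_iff_not_dvd.2 hcop) ?_
      (hpow μ hμL)
    ext v
    rw [MonoidHom.pow_apply, MonoidHom.one_apply]
    have h3 := hk p v
    rw [homTwist_of_mem hy0p, left_eq_mul] at h3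
    rw [h3]
  -- some displacement is nontrivial
  obtain ⟨μ0, hμ0, hμ01⟩ : ∃ μ ∈ L1, μ ≠ 1 := by
    by_contra! hall
    refine hmoved fun u hu g => ?_
    have hfix : ∀ l ∈ L, ∀ y : G, homTwist y l = l := fun l hl => hdich l hl y0 hy0 (by
      have h1 := hall _ ⟨l, hl, rfl⟩
      exact mul_inv_eq_one.1 h1)
    set z : U := ⟨g * u * g⁻¹, hU.conj_mem u hu g⟩ * ⟨u, hu⟩⁻¹ with hz
    suffices hzF : (z : U ⧸ F.subgroupOf U) = 1 by
      exact Subgroup.mem_subgroupOf.1 ((QuotientGroup.eq_one_iff z).1 hzF)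
    haveI : Fintype (U ⧸ F.subgroupOf U) := Fintype.ofFinite _
    refine eq_one_of_forall_irr fun χ => ?_
    have hc : ∀ a b : U ⧸ F.subgroupOf U, a * b = b * a := by
      intro a b
      obtain ⟨a, rfl⟩ := QuotientGroup.mk_surjective a
      obtain ⟨b, rfl⟩ := QuotientGroup.mk_surjective b
      rw [← QuotientGroup.mk_mul, ← QuotientGroup.mk_mul, QuotientGroup.eq, Subgroup.mem_subgroupOf]
      have := hUF _ (U.inv_mem b.2) _ (U.inv_mem a.2)
      simpa [mul_assoc] using this
    obtain ⟨a, ha⟩ := exists_hom_of_apply_one_eq_one (isCharacter_irr χ)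
      (apply_one_eq_one_of_comm hc χ.2)
    set l : U →* ℂˣ := a.comp (QuotientGroup.mk' (F.subgroupOf U)) with hl
    have hlL : l ∈ L := fun v hv => by
      rw [hl, MonoidHom.comp_apply, QuotientGroup.mk'_apply,
        (QuotientGroup.eq_one_iff v).2 (Subgroup.mem_subgroupOf.2 hv), map_one]
    have h1 : l z = 1 := by
      have h2 := DFunLike.congr_fun (hfix l hlL g) (⟨u, hu⟩ : U)
      rw [homTwist_apply] at h2
      rw [hz, map_mul, map_inv, h2, mul_inv_cancel]
    rw [ha]
    exact congrArg Units.val (h1.trans (map_one a).symm)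
  -- at least `m + 1` of them
  have hcard : m < Nat.card L1 := by
    let o : Option (G ⧸ U) → L1 := fun q =>
      q.elim ⟨1, L1.one_mem⟩ fun q => ⟨homTwist q.out μ0, hL1tw μ0 hμ0 _⟩
    have hne1 : ∀ g : G, homTwist g μ0 ≠ 1 := fun g hg => hμ01 (by
      have h1 := congrArg (homTwist g⁻¹) hg
      rwa [homTwist_homTwist, mul_inv_cancel, homTwist_one, map_one] at h1)
    have ho : Function.Injective o := by
      rintro (_ | a) (_ | b) hab
      · rfl
      · exact absurd (congrArg Subtype.val hab).symm (hne1 _)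
      · exact absurd (congrArg Subtype.val hab) (hne1 _)
      · have h1 : homTwist a.out μ0 = homTwist b.out μ0 := congrArg Subtype.val hab
        have h3 := congrArg (homTwist a.out⁻¹) h1
        rw [homTwist_homTwist, homTwist_homTwist, mul_inv_cancel, homTwist_one] at h3
        by_contra hne
        refine hμ01 (hfree μ0 hμ0 _ (fun hmem => hne ?_) h3.symm)
        congr 1
        have e : ((b.out * a.out⁻¹ : G) : G ⧸ U) = 1 := (QuotientGroup.eq_one_iff _).2 hmem
        rw [QuotientGroup.mk_mul, QuotientGroup.mk_inv, QuotientGroup.out_eq',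
          QuotientGroup.out_eq', mul_inv_eq_one] at e
        exact e.symm
    have := Nat.card_le_card_of_injective o ho
    rw [Finite.card_option, hmk] at this
    omega
  -- a character of `U` over `θ`
  haveI := Fintype.ofFinite (F.subgroupOf U)
  obtain ⟨η, tη, t', hη, -, hη1, ht', ht'η, -⟩ := exists_over (F.subgroupOf U)
    (IsIrrCharacter.comp_equiv hθ (Subgroup.subgroupOfEquivOfLe hFU))
  have hpη : p ∣ tη := by
    rw [Function.comp_apply, map_one, ht, Nat.cast_inj] at ht'
    exact hpt.trans (ht' ▸ ht'η)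
  -- each translate is fixed by an element outside `U`
  have hy : ∀ μ : L1, ∃ y : G, y ∉ U ∧
      conjG (η * fun u => ((μ : U →* ℂˣ) u : ℂ)) y = η * fun u => ((μ : U →* ℂˣ) u : ℂ) := by
    intro μ
    set ψ : U → ℂ := η * fun u => ((μ : U →* ℂˣ) u : ℂ) with hψdef
    have hψ : Cfsg.IsIrrCharacter U ψ := IsIrrCharacter.mul_hom hη _
    have hψ1 : ψ 1 = (tη : ℂ) := by
      rw [hψdef, Pi.mul_apply, map_one, Units.val_one, mul_one, hη1]
    by_contra! hno
    have hst : stab ψ = U := le_antisymm (fun y hy => by_contra fun hyU => hno y hyU hy)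
      (le_stab (IsIrrCharacter.isClassFunction hψ))
    have hirr : Cfsg.IsIrrCharacter G (Cfsg.indFun U ψ) := by
      refine IsCharacter.isIrrCharacter_of_norm_one
        (IsCharacter.indFun U (IsIrrCharacter.isCharacter hψ)) ?_
      rw [classInner_indFun_irr hψ hψ]
      show (Nat.card (stab ψ) : ℂ) / _ = 1
      rw [hst, div_self card_ne_zero]
    have hd := h.cases_nat hirr (c := m * tη) (by
      rw [indFun_one, hUm, hψ1, Nat.cast_mul])
    rcases hd with hd | hd | hd
    · exact hp.not_dvd_one (hd ▸ hpm.mul_right tη)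
    · have h1 : tη = 1 := by
        have hm0 : m ≠ 0 := hUm ▸ Subgroup.index_ne_zero_of_finite
        exact mul_left_cancel₀ hm0 (hd.trans (mul_one m).symm)
      exact hp.not_dvd_one (h1 ▸ hpη)
    · exact hpn (hd ▸ hpm.mul_right tη)
  choose yf hyf hyfix using hy
  haveI := Fintype.ofFinite L1
  haveI := Fintype.ofFinite (G ⧸ U)
  obtain ⟨μ, μ', hne, hsame⟩ := Fintype.exists_ne_map_eq_of_card_lt
    (fun μ : L1 => (yf μ : G ⧸ U))
    (by rw [← Nat.card_eq_fintype_card, ← Nat.card_eq_fintype_card, hmk]; exact hcard)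
  set y := yf μ with hydef
  set ψ : U → ℂ := η * fun u => ((μ : U →* ℂˣ) u : ℂ) with hψdef
  have hψ : Cfsg.IsIrrCharacter U ψ := IsIrrCharacter.mul_hom hη _
  have hψ1 : ψ 1 = (tη : ℂ) := by
    rw [hψdef, Pi.mul_apply, map_one, Units.val_one, mul_one, hη1]
  set ν : U →* ℂˣ := (μ : U →* ℂˣ)⁻¹ * (μ' : U →* ℂˣ) with hν
  have hνmem : ν ∈ L1 := L1.mul_mem (L1.inv_mem μ.2) μ'.2
  have hν1 : ν ≠ 1 := fun e => hne (Subtype.ext (inv_mul_eq_one.1 e))
  have hψν : ∀ u, ψ u * (ν u : ℂ) = (η * fun u => ((μ' : U →* ℂˣ) u : ℂ)) u := by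
    intro u
    rw [hψdef, Pi.mul_apply, Pi.mul_apply, hν, MonoidHom.mul_apply, MonoidHom.inv_apply,
      Units.val_mul, mul_assoc, ← mul_assoc ((μ : U →* ℂˣ) u : ℂ), Units.val_inv_eq_inv_val,
      mul_inv_cancel₀ (Units.ne_zero _), one_mul]
  have hy' : conjG (η * fun u => ((μ' : U →* ℂˣ) u : ℂ)) y = η * fun u => ((μ' : U →* ℂˣ) u : ℂ) := by
    have hψ' : Cfsg.IsIrrCharacter U (η * fun u => ((μ' : U →* ℂˣ) u : ℂ)) :=
      IsIrrCharacter.mul_hom hη _
    have hmem : (yf μ')⁻¹ * y ∈ U := QuotientGroup.eq.1 hsame.symm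
    have h1 := (stab _).mul_mem (mem_stab.2 (hyfix μ'))
      (le_stab (IsIrrCharacter.isClassFunction hψ') hmem)
    rw [mul_inv_cancel_left] at h1
    exact h1
  set κ : U →* ℂˣ := homTwist y ν * ν⁻¹ with hκ
  have hκmem : κ ∈ L1 := L1.mul_mem (hL1tw ν hνmem y) (L1.inv_mem hνmem)
  have hκψ : ∀ u, ψ u * (κ u : ℂ) = ψ u := by
    intro u
    have h1 := congrFun hy' u
    rw [← hψν u, conjG_apply, ← hψν] at h1
    have h2 := congrFun (hyfix μ) u
    rw [conjG_apply, ← hψdef] at h2
    rw [h2] at h1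
    rw [hκ, MonoidHom.mul_apply, MonoidHom.inv_apply, homTwist_apply, Units.val_mul,
      Units.val_inv_eq_inv_val, ← mul_assoc, h1, mul_inv_cancel_right₀ (Units.ne_zero _)]
  have hκd : κ ^ tη = 1 := pow_degree_eq_one hψ κ hκψ hψ1
  -- `η`'s degree divides `m`
  have hdm : tη ∣ m := by
    obtain ⟨χ, c, d, hχ, -, hc, hd, hdc, -⟩ := exists_over U hη
    obtain rfl : d = tη := Nat.cast_injective (R := ℂ) (hd.symm.trans hη1)
    rcases h.cases_nat hχ hc with rfl | rfl | rfl
    · exact absurd (hpη.trans hdc) hp.not_dvd_one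
    · exact hdc
    · exact absurd (hpη.trans hdc) hpn
  have hκ1 : κ = 1 := by
    refine (orderOf_eq_one_iff (x := κ)).1 ?_
    rw [Nat.eq_one_iff_not_exists_prime_dvd]
    intro q hq hqd
    haveI := Fact.mk hq
    obtain ⟨yq, hyq, hyqp⟩ := helt q hq ((hqd.trans (orderOf_dvd_of_pow_eq_one hκd)).trans hdm)
    let σ : Equiv.Perm L1 :=
      { toFun := fun μ => ⟨homTwist yq μ, hL1tw _ μ.2 yq⟩
        invFun := fun μ => ⟨homTwist yq⁻¹ μ, hL1tw _ μ.2 _⟩
        left_inv := fun μ => Subtype.ext (by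
          show homTwist yq⁻¹ (homTwist yq (μ : U →* ℂˣ)) = _
          rw [homTwist_homTwist, mul_inv_cancel, homTwist_one])
        right_inv := fun μ => Subtype.ext (by
          show homTwist yq (homTwist yq⁻¹ (μ : U →* ℂˣ)) = _
          rw [homTwist_homTwist, inv_mul_cancel, homTwist_one]) }
    have hσk : ∀ (k : ℕ) (μ : L1), (((σ ^ k) μ : L1) : U →* ℂˣ) = homTwist (yq ^ k) μ := by
      intro k
      induction k with
      | zero => intro μ; rw [pow_zero, pow_zero, homTwist_one]; rfl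
      | succ k ih =>
        intro μ
        rw [pow_succ σ, Equiv.Perm.mul_apply, ih, pow_succ']
        exact homTwist_homTwist _ _ _
    have hσ : σ ^ q ^ 1 = 1 := by
      refine Equiv.ext fun μ => Subtype.ext ?_
      rw [pow_one, hσk, homTwist_of_mem hyqp]
      rfl
    have hqc : q ∣ Fintype.card L1 := by
      rw [← Nat.card_eq_fintype_card]
      have h1 := orderOf_dvd_natCard (⟨κ, hκmem⟩ : L1)
      rw [Subgroup.orderOf_mk] at h1
      exact hqd.trans h1
    obtain ⟨b, hb, hb1⟩ := Equiv.Perm.exists_fixed_point_of_prime' hqc hσ (a := 1)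
      (Subtype.ext (map_one (homTwist yq)))
    exact hb1 (Subtype.ext (hfree b b.2 yq hyq (congrArg Subtype.val hb)))
  exact hν1 (hfree ν hνmem y (hyf μ) (mul_inv_eq_one.1 hκ1))

end CfsgLib.Char.ThreeDegrees
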